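import Cfsg.Agent.BpSpor.CoOneSeven
import Cfsg.Agent.H813.CoSevenData
import Cfsg.Agent.SporadicB.DihedralLift
import Cfsg.Agent.BpSevenCo.Conj
import Cfsg.Agent.MFive.Zero
import Cfsg.Agent.FastGrp
import Cfsg.Agent.Prune
set_option linter.all false

section
prune_inst 0x7f00000000000000000000000000000000000000000000000000000000000000000000000000000000000000000000000000000000000000000000000000000000000000000000000000000000000000003fffffffffffffffffffffffffffbeffbdffffffff

-- part: H813/CoSevenRank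
section
set_option linter.all false
open scoped Cfsg.Agent.FastGrp

/-!
# Elements commuting with a fixed point free element of order seven on `ℚ^24` (helper813)

* `totient_le_of_free` : `T ^ n = 1`, `T ^ (n / p)` without fixed vectors for the primes `p ∣ n`: `φ(n) ≤ dim V`;
* `no_two` : no element of order 16 with eighth power `-1`;
* `no_nine` : no element of order 9;
* `no_heis` : no extraspecial 3-group of order 27;
* `no_five`, `no_twenty_five`.
-/

set_option autoImplicit false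

namespace Cfsg.Agent.H813.CoSevenRank

open Polynomial Module
open Cfsg.Agent.CpAutBig.TwoPrimes Cfsg.Agent.BpSpor.RankBound

section Lin

variable {V : Type*} [AddCommGroup V] [Module ℚ V]

theorem prod_inj (T : Module.End ℚ V) {ι : Type*} (s : Finset ι) (f : ι → ℚ[X])
    (hf : ∀ i ∈ s, ∀ w : V, aeval T (f i) w = 0 → w = 0) {w : V} (hw : aeval T (∏ i ∈ s, f i) w = 0) : w = 0 := by
  classical
  induction s using Finset.induction_on with
  | empty =>
    rw [Finset.prod_empty, map_one] at hw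
    exact hw
  | insert i s hi ih =>
    rw [Finset.prod_insert hi, map_mul] at hw
    have h1 : aeval T (f i) (aeval T (∏ i ∈ s, f i) w) = 0 := hw
    exact ih (fun j hj => hf j (Finset.mem_insert_of_mem hj)) (hf i (Finset.mem_insert_self i s) _ h1)

theorem totient_le_of_free [FiniteDimensional ℚ V] {T : Module.End ℚ V} {n : ℕ} (hn : 0 < n) (hT : T ^ n = 1)
    (hfree : ∀ p : ℕ, p.Prime → p ∣ n → ∀ v, (T ^ (n / p)) v = v → v = 0) {v : V} (hv : v ≠ 0) :
    n.totient ≤ finrank ℚ V := by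
  refine totient_le T hn hv ?_
  refine prod_inj T n.properDivisors (fun d => cyclotomic d ℚ) ?_ (w := aeval T (cyclotomic n ℚ) v) ?_
  · intro d hd w hw
    rw [Nat.mem_properDivisors] at hd
    obtain ⟨⟨k, hk⟩, hlt⟩ := hd
    have hk1 : k ≠ 1 := by
      rintro rfl
      rw [mul_one] at hk
      omega
    obtain ⟨p, hp, l, hl⟩ := Nat.exists_prime_and_dvd hk1
    have hnp : n / p = d * l := by
      rw [hk, hl, show d * (p * l) = d * l * p by ring]
      exact Nat.mul_div_cancel _ hp.pos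
    apply hfree p hp (by rw [hk, hl]; exact ⟨d * l, by ring⟩)
    obtain ⟨Q, hQ⟩ : cyclotomic d ℚ ∣ (X : ℚ[X]) ^ (n / p) - 1 := by
      refine (cyclotomic.dvd_X_pow_sub_one d ℚ).trans ?_
      rw [hnp, pow_mul]
      exact sub_one_dvd_pow_sub_one _ _
    have h1 : aeval T ((X : ℚ[X]) ^ (n / p) - 1) w = 0 := by
      rw [hQ, mul_comm, map_mul]
      change aeval T Q (aeval T (cyclotomic d ℚ) w) = 0
      rw [hw, map_zero]
    rw [map_sub, map_pow, aeval_X, map_one] at h1
    exact sub_eq_zero.1 h1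
  · have h1 : (∏ d ∈ n.properDivisors, cyclotomic d ℚ) * cyclotomic n ℚ = X ^ n - 1 := by
      rw [← prod_cyclotomic_eq_X_pow_sub_one hn ℚ, ← Nat.insert_self_properDivisors hn.ne',
        Finset.prod_insert Nat.self_notMem_properDivisors, mul_comm]
    change (aeval T (∏ d ∈ n.properDivisors, cyclotomic d ℚ) * aeval T (cyclotomic n ℚ)) v = 0
    rw [← map_mul, h1, map_sub, map_pow, aeval_X, map_one, hT, sub_self]
    rfl

theorem totient_le_sub [FiniteDimensional ℚ V] {T : Module.End ℚ V} {U : Submodule ℚ V} (hU : ∀ v ∈ U, T v ∈ U) {n : ℕ}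
    (hn : 0 < n) (hT : T ^ n = 1) (hfree : ∀ p : ℕ, p.Prime → p ∣ n → ∀ v ∈ U, (T ^ (n / p)) v = v → v = 0) {v : V}
    (hvU : v ∈ U) (hv : v ≠ 0) : n.totient ≤ finrank ℚ U := by
  refine totient_le_of_free (T := T.restrict hU) (v := ⟨v, hvU⟩) hn (restrict_pow hU n hT) ?_ ?_
  · intro p hp hpn w hw
    rw [Module.End.pow_restrict] at hw
    exact Subtype.ext (hfree p hp hpn w w.2 (congrArg Subtype.val hw))
  · intro h
    exact hv (congrArg Subtype.val h)

end Lin

section Main

set_option linter.unusedSectionVars false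

variable {V : Type*} [AddCommGroup V] [Module ℚ V] [FiniteDimensional ℚ V] {G : Type*} [Group G]

theorem mul_pow_comm {x g : G} (h : x * g = g * x) (n : ℕ) : (x * g) ^ n = x ^ n * g ^ n :=
  (show Commute x g from h).mul_pow n

theorem free_pow (ρ : G →* Module.End ℚ V) {x : G} (hx : x ^ 7 = 1) (hfree : ∀ v, ρ x v = v → v = 0) {k : ℕ}
    (hk : k.Coprime 7) {v : V} (hv : (ρ (x ^ k)) v = v) : v = 0 := by
  apply hfree
  have hX : ρ x ^ 7 = 1 := by rw [← map_pow, hx, map_one]
  rw [map_pow] at hv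
  exact eq_of_coprime hk hX hv

/-- no element of order 16 whose eighth power is `-1` -/
theorem no_sixteen (ρ : G →* Module.End ℚ V) (hV : finrank ℚ V = 24) {x : G}
    (hx : x ^ 7 = 1) (hfree : ∀ v, ρ x v = v → v = 0) {g : G} (hxg : x * g = g * x) (hg : g ^ 16 = 1)
    (hg8 : ∀ v, ρ (g ^ 8) v = -v) : False := by
  have hne : ∃ v : V, v ≠ 0 := by
    by_contra hc
    push Not at hc
    have : Subsingleton V := ⟨fun a b => by rw [hc a, hc b]⟩
    have h1 := finrank_zero_of_subsingleton (R := ℚ) (M := V)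
    omega
  obtain ⟨v, hv⟩ := hne
  have hT : ∀ n, (ρ (x * g)) ^ n = ρ (x ^ n * g ^ n) := fun n => by rw [← map_pow, mul_pow_comm hxg]
  have h1 : (112 : ℕ).totient ≤ finrank ℚ V := by
    refine totient_le_of_free (T := ρ (x * g)) (by norm_num) ?_ ?_ hv
    · rw [hT, show x ^ 112 = 1 by rw [show 112 = 7 * 16 by norm_num, pow_mul, hx, one_pow],
        show g ^ 112 = 1 by rw [show 112 = 16 * 7 by norm_num, pow_mul, hg, one_pow], one_mul, map_one]
    · intro p hp hd w hw
      have hp' : p = 2 ∨ p = 7 := by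
        have h2 : p ∣ 2 ^ 4 * 7 := by rw [show 2 ^ 4 * 7 = 112 by norm_num]; exact hd
        rcases hp.dvd_mul.1 h2 with h | h
        · exact Or.inl ((Nat.prime_dvd_prime_iff_eq hp Nat.prime_two).1 (hp.dvd_of_dvd_pow h))
        · exact Or.inr ((Nat.prime_dvd_prime_iff_eq hp (by norm_num)).1 h)
      rcases hp' with rfl | rfl
      · rw [show 112 / 2 = 56 by norm_num, hT,
          show x ^ 56 = 1 by rw [show 56 = 7 * 8 by norm_num, pow_mul, hx, one_pow],
          show g ^ 56 = g ^ 8 by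
            rw [show 56 = 16 * 3 + 8 by norm_num, pow_add, pow_mul, hg, one_pow, one_mul], one_mul, hg8] at hw
        have h3 : (2 : ℚ) • w = 0 := by
          rw [two_smul]
          nth_rewrite 1 [← hw]
          exact neg_add_cancel w
        rcases smul_eq_zero.1 h3 with h | h
        · norm_num at h
        · exact h
      · rw [show 112 / 7 = 16 by norm_num, hT, hg, mul_one] at hw
        exact free_pow ρ hx hfree (by norm_num) hw
  rw [hV, show (112 : ℕ).totient = 48 by decide] at h1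
  omega

theorem inv_range (ρ : G →* Module.End ℚ V) {a g : G} (h : g * a = a * g) : ∀ v ∈ LinearMap.range (ρ a - 1),
    ρ g v ∈ LinearMap.range (ρ a - 1) := by
  rintro _ ⟨v, rfl⟩
  refine ⟨ρ g v, ?_⟩
  change ρ a (ρ g v) - ρ g v = ρ g (ρ a v - v)
  have h2 : ρ a (ρ g v) = ρ g (ρ a v) := by
    rw [← Module.End.mul_apply, ← Module.End.mul_apply, ← map_mul, ← map_mul, h]
  rw [h2, map_sub]

theorem exists_move {ρ : G →* Module.End ℚ V} (hρ : Function.Injective ρ) {a : G} (ha : a ≠ 1) : ∃ w, ρ a w ≠ w := by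
  by_contra hc
  push Not at hc
  apply ha
  apply hρ
  rw [map_one]
  exact LinearMap.ext hc

theorem zero_of_range (ρ : G →* Module.End ℚ V) {a : G} {n : ℕ} (hn : 0 < n) (ha : a ^ n = 1) {v : V}
    (hv : v ∈ LinearMap.range (ρ a - 1)) (h : ρ a v = v) : v = 0 := by
  obtain ⟨w, rfl⟩ := hv
  exact eq_zero_of_range (ρ a) hn (by rw [← map_pow, ha, map_one]) h rfl

/-- no element of order 9 -/
theorem no_nine (ρ : G →* Module.End ℚ V) (hρ : Function.Injective ρ) (hV : finrank ℚ V = 24) {x : G}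
    (hx : x ^ 7 = 1) (hfree : ∀ v, ρ x v = v → v = 0) {g : G} (hxg : x * g = g * x) (hg : g ^ 9 = 1) : g ^ 3 = 1 := by
  by_contra hg3
  obtain ⟨w, hw⟩ := exists_move hρ hg3
  have hT : ∀ n, (ρ (x * g)) ^ n = ρ (x ^ n * g ^ n) := fun n => by rw [← map_pow, mul_pow_comm hxg]
  have hcom : x * g * g ^ 3 = g ^ 3 * (x * g) := by
    have h1 : Commute x g := hxg
    have h2 : Commute (x * g) g := h1.mul_left (Commute.refl g)
    exact (h2.pow_right 3).eq
  have h1 : (63 : ℕ).totient ≤ finrank ℚ ↥(LinearMap.range (ρ (g ^ 3) - 1)) := by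
    refine totient_le_sub (T := ρ (x * g)) (U := LinearMap.range (ρ (g ^ 3) - 1)) (inv_range ρ hcom) (by norm_num) ?_ ?_
      (v := ρ (g ^ 3) w - w) ⟨w, rfl⟩ (sub_ne_zero.2 hw)
    · rw [hT, show x ^ 63 = 1 by rw [show 63 = 7 * 9 by norm_num, pow_mul, hx, one_pow],
        show g ^ 63 = 1 by rw [show 63 = 9 * 7 by norm_num, pow_mul, hg, one_pow], one_mul, map_one]
    · intro p hp hd u huU hu
      have hp' : p = 3 ∨ p = 7 := by
        have h2 : p ∣ 3 ^ 2 * 7 := by rw [show 3 ^ 2 * 7 = 63 by norm_num]; exact hd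
        rcases hp.dvd_mul.1 h2 with h | h
        · exact Or.inl ((Nat.prime_dvd_prime_iff_eq hp Nat.prime_three).1 (hp.dvd_of_dvd_pow h))
        · exact Or.inr ((Nat.prime_dvd_prime_iff_eq hp (by norm_num)).1 h)
      rcases hp' with rfl | rfl
      · rw [show 63 / 3 = 21 by norm_num, hT,
          show x ^ 21 = 1 by rw [show 21 = 7 * 3 by norm_num, pow_mul, hx, one_pow],
          show g ^ 21 = g ^ 3 by
            rw [show 21 = 9 * 2 + 3 by norm_num, pow_add, pow_mul, hg, one_pow, one_mul], one_mul] at hu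
        exact zero_of_range ρ (n := 3) (by norm_num) (by rw [← pow_mul, hg]) huU hu
      · rw [show 63 / 7 = 9 by norm_num, hT, hg, mul_one] at hu
        exact free_pow ρ hx hfree (by norm_num) hu
  have h2 := Submodule.finrank_le (LinearMap.range (ρ (g ^ 3) - 1))
  rw [hV] at h2
  rw [show (63 : ℕ).totient = 36 by decide] at h1
  omega

/-- no nonabelian group of order 27 and exponent 3 -/
theorem no_heis (ρ : G →* Module.End ℚ V) (hρ : Function.Injective ρ) (hV : finrank ℚ V = 24) {x : G}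
    (hx : x ^ 7 = 1) (hfree : ∀ v, ρ x v = v → v = 0) {a b z : G} (hxa : x * a = a * x)
    (hxz : x * z = z * x) (ha : a ^ 3 = 1) (hz : z ^ 3 = 1) (haz : a * z = z * a)
    (hba : b * a * b⁻¹ = a * z) (hbz : b * z = z * b) : z = 1 := by
  by_contra hz1
  have hp7 : Nat.Prime 7 := by norm_num
  have hp3 : Nat.Prime 3 := by norm_num
  have hX : ρ x ^ 7 = 1 := by rw [← map_pow, hx, map_one]
  have hZ : ρ z ^ 3 = 1 := by rw [← map_pow, hz, map_one]
  have hA : ρ a ^ 3 = 1 := by rw [← map_pow, ha, map_one]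
  have hcXZ : Commute (ρ x) (ρ z) := by
    change _ * _ = _ * _
    rw [← map_mul, ← map_mul, hxz]
  have hcAZ : Commute (ρ a) (ρ z) := by
    change _ * _ = _ * _
    rw [← map_mul, ← map_mul, haz]
  obtain ⟨W, hW⟩ : ∃ W, W = LinearMap.range (ρ z - 1) := ⟨_, rfl⟩
  have hW0 : ∀ v ∈ W, ρ z v = v → v = 0 := by
    intro v hv h
    rw [hW] at hv
    exact zero_of_range ρ (n := 3) (by norm_num) hz hv h
  have hWx : ∀ v ∈ W, ρ x v ∈ W := by rw [hW]; exact inv_range ρ hxz
  have hWz : ∀ v ∈ W, ρ z v ∈ W := by rw [hW]; exact inv_range ρ rfl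
  have hWa : ∀ v ∈ W, ρ a v ∈ W := by rw [hW]; exact inv_range ρ haz
  have hWb : ∀ v ∈ W, ρ b v ∈ W := by rw [hW]; exact inv_range ρ hbz
  have hap : ∀ (g h : G) (v : V), ρ g (ρ h v) = ρ (g * h) v := fun g h v => by rw [map_mul]; rfl
  obtain ⟨F, hF⟩ : ∃ F : ℕ → Submodule ℚ V, F = fun i => W ⊓ LinearMap.ker (ρ (a * z ^ i) - 1) := ⟨_, rfl⟩
  have memF : ∀ i v, v ∈ F i ↔ v ∈ W ∧ ρ (a * z ^ i) v = v := by
    intro i v
    rw [hF]
    change v ∈ W ⊓ LinearMap.ker (ρ (a * z ^ i) - 1) ↔ _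
    rw [Submodule.mem_inf, LinearMap.mem_ker]
    exact and_congr_right fun _ => sub_eq_zero
  have hFx : ∀ i, ∀ v ∈ F i, ρ x v ∈ F i := by
    intro i v hv
    rw [memF] at hv ⊢
    refine ⟨hWx v hv.1, ?_⟩
    have h1 : a * z ^ i * x = x * (a * z ^ i) := by
      have h2 : Commute x a := hxa
      have h3 : Commute x z := hxz
      exact (h2.mul_right (h3.pow_right i)).eq.symm
    rw [hap, h1, ← hap, hv.2]
  have hFz : ∀ i, ∀ v ∈ F i, ρ z v ∈ F i := by
    intro i v hv
    rw [memF] at hv ⊢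
    refine ⟨hWz v hv.1, ?_⟩
    have h1 : a * z ^ i * z = z * (a * z ^ i) := by
      have h2 : Commute z a := haz.symm
      exact (h2.mul_right (Commute.self_pow z i)).eq.symm
    rw [hap, h1, ← hap, hv.2]
  have hFb : ∀ i, ∀ v ∈ F i, ρ b v ∈ F (i + 1) := by
    intro i v hv
    rw [memF] at hv ⊢
    refine ⟨hWb v hv.1, ?_⟩
    have h1 : a * z ^ (i + 1) * b = b * (a * z ^ i) := by
      have h2 : Commute b (z ^ i) := (show Commute b z from hbz).pow_right i
      have h3 : b * a = a * z * b := by rw [← hba]; group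
      have h4 : b * z ^ i = z ^ i * b := h2.eq
      calc a * z ^ (i + 1) * b = a * z * (z ^ i * b) := by rw [pow_succ' z i]; simp only [mul_assoc]
        _ = (a * z * b) * z ^ i := by rw [← h4]; simp only [mul_assoc]
        _ = b * (a * z ^ i) := by rw [← h3, mul_assoc]
    rw [hap, h1, ← hap, hv.2]
  have hb0 : ∀ v, ρ b v = 0 → v = 0 := by
    intro v hv
    have h1 := hap b⁻¹ b v
    rw [hv, map_zero, inv_mul_cancel, map_one] at h1
    exact h1.symm
  have hF3 : F 3 = F 0 := by
    ext v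
    rw [memF, memF, hz, pow_zero]
  -- a nonzero vector
  obtain ⟨v, i, hi, hv, hv0⟩ : ∃ v, ∃ i < 3, v ∈ F i ∧ v ≠ 0 := by
    have hWne : W ≠ ⊥ := by
      obtain ⟨w, hw⟩ := exists_move hρ hz1
      intro h
      have h1 : ρ z w - w ∈ W := by rw [hW]; exact ⟨w, rfl⟩
      rw [h, Submodule.mem_bot] at h1
      exact hw (sub_eq_zero.1 h1)
    obtain ⟨v, hvW, hv0, h⟩ := exists_fix_three hcAZ hA hZ hWne hWa hWz
    rcases h with h | h | h | h
    · refine ⟨v, 0, by norm_num, (memF _ _).2 ⟨hvW, ?_⟩, hv0⟩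
      rw [pow_zero, mul_one]
      exact h
    · exact absurd (hW0 v hvW h) hv0
    · refine ⟨v, 1, by norm_num, (memF _ _).2 ⟨hvW, ?_⟩, hv0⟩
      rw [pow_one, map_mul]
      exact h
    · refine ⟨v, 2, by norm_num, (memF _ _).2 ⟨hvW, ?_⟩, hv0⟩
      have h1 : ρ (a * a * z) v = v := by rw [map_mul, map_mul]; exact h
      have h2 : a * z ^ 2 = (a * a * z) * (a * a * z) := by
        have h3 : (a * a * z) * (a * a * z) = a * a * (z * a) * (a * z) := by simp only [mul_assoc]
        have h4 : z * a = a * z := haz.symm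
        have h5 : a * a * (a * z) * (a * z) = a ^ 3 * (z * a) * z := by
          rw [pow_succ, pow_two]; simp only [mul_assoc]
        rw [h3, h4, h5, ha, one_mul, h4, pow_two, mul_assoc]
      rw [h2, ← hap, h1, h1]
  have hnz : ∀ i, (∃ v ∈ F i, v ≠ 0) → ∃ v ∈ F (i + 1), v ≠ 0 := by
    rintro i ⟨v, hv, hv0⟩
    exact ⟨ρ b v, hFb i v hv, fun h => hv0 (hb0 v h)⟩
  have h0 : ∃ v ∈ F 0, v ≠ 0 := by
    interval_cases i
    · exact ⟨v, hv, hv0⟩
    · rw [← hF3]; exact hnz 2 (hnz 1 ⟨v, hv, hv0⟩)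
    · rw [← hF3]; exact hnz 2 ⟨v, hv, hv0⟩
  have h1 := hnz 0 h0
  have h2 := hnz 1 h1
  have key : ∀ i, (∃ v ∈ F i, v ≠ 0) → 12 ≤ finrank ℚ (F i) := by
    rintro i ⟨v, hv, hv0⟩
    exact le_finrank_sub hp7 hp3 (by norm_num) hcXZ hX hZ hfree (hFx i) (hFz i) hv fun h =>
      hv0 (hW0 v ((memF _ _).1 hv).1 h)
  have e01 : F 0 ⊓ F 1 = ⊥ := by
    rw [eq_bot_iff]
    rintro v ⟨hv1, hv2⟩
    rw [SetLike.mem_coe, memF] at hv1 hv2
    rw [Submodule.mem_bot]
    apply hW0 v hv1.1
    have h3 := hv1.2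
    have h4 := hv2.2
    rw [pow_zero, mul_one] at h3
    rw [pow_one, haz, ← hap, h3] at h4
    exact h4
  have e2 : (F 0 ⊔ F 1) ⊓ F 2 = ⊥ := by
    rw [eq_bot_iff]
    rintro v ⟨hv1, hv2⟩
    obtain ⟨v0, hv0', v1, hv1', rfl⟩ := Submodule.mem_sup.1 hv1
    rw [SetLike.mem_coe, memF] at hv2
    have h3 := hv2.2
    have f0 := ((memF _ _).1 hv0').2
    have f1 := ((memF _ _).1 hv1').2
    rw [pow_zero, mul_one] at f0
    rw [pow_one] at f1
    have g0 : ρ (a * z ^ 2) v0 = ρ z (ρ z v0) := by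
      have h5 : a * z ^ 2 = z * (z * a) := by
        have h6 : z * a = a * z := haz.symm
        rw [h6, ← mul_assoc, h6, mul_assoc, pow_two]
      rw [h5, ← hap, ← hap, f0]
    have g1 : ρ (a * z ^ 2) v1 = ρ z v1 := by
      have h5 : a * z ^ 2 = z * (a * z) := by
        have h6 : z * a = a * z := haz.symm
        rw [← mul_assoc, h6, mul_assoc, pow_two]
      rw [h5, ← hap, f1]
    rw [map_add, g0, g1] at h3
    have h4 : ρ z (ρ z v0) - v0 = v1 - ρ z v1 := by
      rw [sub_eq_sub_iff_add_eq_add, h3, add_comm]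
    have h5 : ρ z (ρ z v0) - v0 ∈ F 0 ⊓ F 1 := by
      refine ⟨(F 0).sub_mem (hFz 0 _ (hFz 0 _ hv0')) hv0', ?_⟩
      rw [h4]
      exact (F 1).sub_mem hv1' (hFz 1 _ hv1')
    rw [e01, Submodule.mem_bot] at h5
    have h6 : v1 = 0 := by
      rw [h5] at h4
      exact hW0 v1 ((memF _ _).1 hv1').1 (sub_eq_zero.1 h4.symm).symm
    have h7 : v0 = 0 := by
      apply hW0 v0 ((memF _ _).1 hv0').1
      have h8 : (ρ z ^ 2) v0 = v0 := by
        rw [pow_two]
        exact sub_eq_zero.1 h5
      exact eq_of_coprime (by norm_num) hZ h8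
    rw [h6, h7, add_zero]
    exact Submodule.zero_mem _
  have d1 := Submodule.finrank_sup_add_finrank_inf_eq (F 0) (F 1)
  have d2 := Submodule.finrank_sup_add_finrank_inf_eq (F 0 ⊔ F 1) (F 2)
  rw [e01, finrank_bot] at d1
  rw [e2, finrank_bot] at d2
  have d3 := Submodule.finrank_le (F 0 ⊔ F 1 ⊔ F 2)
  have k0 := key 0 h0
  have k1 := key 1 h1
  have k2 := key 2 h2
  omega

/-- elements of order 5 have no fixed vectors -/
theorem free_five (ρ : G →* Module.End ℚ V) (hρ : Function.Injective ρ) (hV : finrank ℚ V = 24) {x : G}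
    (hx : x ^ 7 = 1) (hfree : ∀ v, ρ x v = v → v = 0) {y : G} (hxy : x * y = y * x) (hy : y ^ 5 = 1) (hy1 : y ≠ 1)
    {v : V} (hv : ρ y v = v) : v = 0 := by
  have hp7 : Nat.Prime 7 := by norm_num
  have hp5 : Nat.Prime 5 := by norm_num
  have hX : ρ x ^ 7 = 1 := by rw [← map_pow, hx, map_one]
  have hY : ρ y ^ 5 = 1 := by rw [← map_pow, hy, map_one]
  have hc : Commute (ρ x) (ρ y) := by
    change _ * _ = _ * _
    rw [← map_mul, ← map_mul, hxy]
  obtain ⟨w, hw⟩ := exists_move hρ hy1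
  have h1 := split hp7 hp5 (by norm_num) hc hX hY hfree (U := ⊤) (fun _ _ => Submodule.mem_top)
    (fun _ _ => Submodule.mem_top) (Submodule.mem_top (x := w)) hw
  rw [top_inf_eq, finrank_top, hV] at h1
  have h2 : finrank ℚ ↥(LinearMap.ker (ρ y - 1)) = 0 := by omega
  rw [Submodule.finrank_eq_zero] at h2
  have h3 : v ∈ LinearMap.ker (ρ y - 1) := LinearMap.mem_ker.2 (sub_eq_zero.2 hv)
  rwa [h2, Submodule.mem_bot] at h3

/-- no elementary abelian group of order 25 -/
theorem no_five (ρ : G →* Module.End ℚ V) (hρ : Function.Injective ρ) (hV : finrank ℚ V = 24) {x : G}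
    (hx : x ^ 7 = 1) (hfree : ∀ v, ρ x v = v → v = 0) {y z : G} (hxy : x * y = y * x) (hxz : x * z = z * x)
    (hyz : y * z = z * y) (hy : y ^ 5 = 1) (hz : z ^ 5 = 1) (hy1 : y ≠ 1) : ∃ i < 5, y ^ i * z = 1 := by
  by_contra hcon
  push Not at hcon
  have hne : ∃ v : V, v ≠ 0 := by
    by_contra hc
    push Not at hc
    have : Subsingleton V := ⟨fun a b => by rw [hc a, hc b]⟩
    have h1 := finrank_zero_of_subsingleton (R := ℚ) (M := V)
    omega
  obtain ⟨v, hv⟩ := hne
  -- the trace of a free element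
  have key : ∀ g : G, x * g = g * x → g ^ 5 = 1 → g ≠ 1 → ∑ i ∈ Finset.range 5, ρ (g ^ i) v = 0 := by
    intro g hxg hg hg1
    apply free_five ρ hρ hV hx hfree hxg hg hg1
    rw [map_sum]
    have h1 : ∀ i ∈ Finset.range 5, ρ g (ρ (g ^ i) v) = ρ (g ^ (i + 1)) v := by
      intro i _
      rw [pow_succ', map_mul]; rfl
    rw [Finset.sum_congr rfl h1, Finset.sum_range_succ (fun i => ρ (g ^ (i + 1)) v) 4,
      Finset.sum_range_succ' (fun i => ρ (g ^ i) v) 4, pow_zero, hg]
  have h5 : ∀ j ∈ Finset.range 4, ∑ i ∈ Finset.range 5, ρ ((y ^ i * z) ^ (j + 1)) v = 0 := by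
    intro j hj
    have hj4 := Finset.mem_range.1 hj
    have e : ∀ i ∈ Finset.range 5, ρ ((y ^ i * z) ^ (j + 1)) v = ρ (z ^ (j + 1)) (ρ ((y ^ (j + 1)) ^ i) v) := by
      intro i _
      have h1 : Commute (y ^ i) z := (show Commute y z from hyz).pow_left i
      have h2 : (y ^ i * z) ^ (j + 1) = z ^ (j + 1) * (y ^ (j + 1)) ^ i := by
        rw [h1.mul_pow, (h1.pow_pow (j + 1) (j + 1)).eq, ← pow_mul, ← pow_mul, mul_comm i]
      rw [h2, map_mul]
      rfl
    rw [Finset.sum_congr rfl e, ← map_sum]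
    have h2 : x * y ^ (j + 1) = y ^ (j + 1) * x := ((show Commute x y from hxy).pow_right (j + 1)).eq
    have h3 : y ^ (j + 1) ≠ 1 := by
      intro h
      apply hy1
      have h6 : orderOf y ∣ 5 := orderOf_dvd_of_pow_eq_one hy
      have h7 : orderOf y ∣ j + 1 := orderOf_dvd_of_pow_eq_one h
      rcases (Nat.dvd_prime (by norm_num : Nat.Prime 5)).1 h6 with h8 | h8
      · exact orderOf_eq_one_iff.1 h8
      · rw [h8] at h7
        have := Nat.le_of_dvd (by omega) h7
        omega
    rw [key _ h2 (by rw [← pow_mul, mul_comm, pow_mul, hy, one_pow]) h3, map_zero]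
  have h6 : ∑ i ∈ Finset.range 5, ∑ j ∈ Finset.range 5, ρ ((y ^ i * z) ^ j) v = 0 := by
    apply Finset.sum_eq_zero
    intro i hi
    apply key
    · exact ((show Commute x y from hxy).pow_right i).mul_right hxz
    · have h1 : Commute (y ^ i) z := (show Commute y z from hyz).pow_left i
      rw [h1.mul_pow, hz, mul_one, ← pow_mul, mul_comm, pow_mul, hy, one_pow]
    · exact hcon i (Finset.mem_range.1 hi)
  rw [Finset.sum_comm, Finset.sum_range_succ', Finset.sum_eq_zero h5, zero_add] at h6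
  simp only [pow_zero, map_one, Module.End.one_apply, Finset.sum_const, Finset.card_range] at h6
  have h7 : (5 : ℚ) • v = 0 := by
    have : ((5 : ℕ) : ℚ) • v = 0 := by rw [Nat.cast_smul_eq_nsmul, h6]
    exact_mod_cast this
  rcases smul_eq_zero.1 h7 with h | h
  · norm_num at h
  · exact hv h

/-- no element of order 25 -/
theorem no_twenty_five (ρ : G →* Module.End ℚ V) (hρ : Function.Injective ρ) (hV : finrank ℚ V = 24) {x : G}
    (hx : x ^ 7 = 1) (hfree : ∀ v, ρ x v = v → v = 0) {g : G} (hxg : x * g = g * x) (hg : g ^ 25 = 1) : g ^ 5 = 1 := by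
  by_contra hg5
  have hne : ∃ v : V, v ≠ 0 := by
    by_contra hc
    push Not at hc
    have : Subsingleton V := ⟨fun a b => by rw [hc a, hc b]⟩
    have h1 := finrank_zero_of_subsingleton (R := ℚ) (M := V)
    omega
  obtain ⟨v, hv⟩ := hne
  have hT : ∀ n, (ρ (x * g)) ^ n = ρ (x ^ n * g ^ n) := fun n => by rw [← map_pow, mul_pow_comm hxg]
  have h1 : (175 : ℕ).totient ≤ finrank ℚ V := by
    refine totient_le_of_free (T := ρ (x * g)) (by norm_num) ?_ ?_ hv
    · rw [hT, show x ^ 175 = 1 by rw [show 175 = 7 * 25 by norm_num, pow_mul, hx, one_pow],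
        show g ^ 175 = 1 by rw [show 175 = 25 * 7 by norm_num, pow_mul, hg, one_pow], one_mul, map_one]
    · intro p hp hd w hw
      have hp' : p = 5 ∨ p = 7 := by
        have h2 : p ∣ 5 ^ 2 * 7 := by rw [show 5 ^ 2 * 7 = 175 by norm_num]; exact hd
        rcases hp.dvd_mul.1 h2 with h | h
        · exact Or.inl ((Nat.prime_dvd_prime_iff_eq hp Nat.prime_five).1 (hp.dvd_of_dvd_pow h))
        · exact Or.inr ((Nat.prime_dvd_prime_iff_eq hp (by norm_num)).1 h)
      rcases hp' with rfl | rfl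
      · rw [show 175 / 5 = 35 by norm_num, hT,
          show x ^ 35 = 1 by rw [show 35 = 7 * 5 by norm_num, pow_mul, hx, one_pow],
          show g ^ 35 = (g ^ 5) ^ 2 by
            rw [show 35 = 25 + 5 * 2 by norm_num, pow_add, pow_mul, hg, one_mul], one_mul, map_pow] at hw
        have h3 : ρ (g ^ 5) w = w := by
          refine eq_of_coprime (a := 2) (b := 5) (by norm_num) ?_ hw
          rw [← map_pow, ← pow_mul, hg, map_one]
        refine free_five ρ hρ hV hx hfree ?_ ?_ hg5 h3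
        · exact ((show Commute x g from hxg).pow_right 5).eq
        · rw [← pow_mul, hg]
      · rw [show 175 / 7 = 25 by norm_num, hT, hg, mul_one] at hw
        exact free_pow ρ hx hfree (by norm_num) hw
  rw [hV, show (175 : ℕ).totient = 120 by decide +kernel] at h1
  omega

end Main

end Cfsg.Agent.H813.CoSevenRank
end

-- part: H813/CoSevenCard
section
set_option linter.all false
open scoped Cfsg.Agent.FastGrp

/-!
# The order of the centralizer in `Co0` of a fixed point free element of order seven (helper813)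

`card_dvd` : it divides `35280 = 2^4 * 3^2 * 5 * 7^2`.
-/

set_option autoImplicit false

namespace Cfsg.Agent.H813.CoSevenCard

open Subgroup Cfsg Cfsg.Agent.SporadicStructure.Co0Base
open Cfsg.Agent.CpAutBig Cfsg.Agent.H813.CoSevenRank

/-! ### Small `p`-groups -/

theorem exists_sixteen {K : Type*} [Group K] [Finite K] (hK : Nat.card K = 2 ^ 5)
    (hu : ∀ x y : K, orderOf x = 2 → orderOf y = 2 → x = y) : ∃ g : K, orderOf g = 16 := by
  have : Fact (Nat.Prime 2) := ⟨Nat.prime_two⟩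
  have hp : IsPGroup 2 K := IsPGroup.of_card hK
  have h2 : ∀ H : Subgroup K, Nat.card H = 2 → ∃ x : K, orderOf x = 2 ∧ H = zpowers x := by
    intro H hH
    obtain ⟨x, hx⟩ := exists_prime_orderOf_dvd_card' (G := ↥H) 2 (by rw [hH])
    refine ⟨x, by rw [Subgroup.orderOf_coe, hx], ?_⟩
    symm
    apply eq_of_le_of_card_ge
    · rw [zpowers_le]; exact x.2
    · rw [Nat.card_zpowers, Subgroup.orderOf_coe, hx, hH]
  have huniq : ∀ H L : Subgroup K, Nat.card H = 2 → Nat.card L = 2 → H = L := by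
    intro H L hH hL
    obtain ⟨x, hx, rfl⟩ := h2 H hH
    obtain ⟨y, hy, rfl⟩ := h2 L hL
    rw [hu x y hx hy]
  rcases S0016.result 2 hp huniq with hc | ⟨-, n, ⟨e⟩⟩
  · obtain ⟨g, hg⟩ := hc.exists_generator
    have h1 : orderOf g = 32 := by
      rw [orderOf_eq_card_of_forall_mem_zpowers hg, hK]; norm_num
    refine ⟨g ^ 2, ?_⟩
    rw [orderOf_pow, h1]
    norm_num
  · have h1 : Nat.card (QuaternionGroup (2 ^ n)) = 4 * 2 ^ n := by
      have : NeZero (2 ^ n) := ⟨by positivity⟩
      rw [Nat.card_eq_fintype_card, QuaternionGroup.card]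
    rw [← Nat.card_congr e.toEquiv, hK] at h1
    have h3 : 2 ^ n = 8 := by omega
    refine ⟨e.symm (QuaternionGroup.a 1), ?_⟩
    rw [MulEquiv.orderOf_eq, QuaternionGroup.orderOf_a_one, h3]

theorem comm_of_le {K : Type*} [Group K] [Finite K] {p : ℕ} (hp : p.Prime) (hK : Nat.card K ∣ p ^ 2) :
    ∀ a b : K, a * b = b * a := by
  have : Fact p.Prime := ⟨hp⟩
  obtain ⟨k, hk, hc⟩ := (Nat.dvd_prime_pow hp).1 hK
  interval_cases k
  · rw [pow_zero] at hc
    have := (Nat.card_eq_one_iff_unique.1 hc).1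
    intro a b
    exact Subsingleton.elim _ _
  · rw [pow_one] at hc
    have := isCyclic_of_prime_card hc
    exact (IsCyclic.commGroup (α := K)).mul_comm
  · exact (IsPGroup.commGroupOfCardEqPrimeSq hc).mul_comm

/-- a nonabelian group of order `p ^ 3` -/
theorem exists_comm {K : Type*} [Group K] [Finite K] {p : ℕ} (hp : p.Prime) (hK : Nat.card K = p ^ 3) {a b : K}
    (hab : a * b ≠ b * a) : ∃ z : K, z ≠ 1 ∧ b * a * b⁻¹ = a * z ∧ ∀ g : K, g * z = z * g := by
  have : Fact p.Prime := ⟨hp⟩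
  have hP : IsPGroup p K := IsPGroup.of_card hK
  have hnt : Nontrivial K := ⟨a, b, fun h => hab (by rw [h])⟩
  have hc : Nontrivial (center K) := hP.center_nontrivial
  have h1 : Nat.card (K ⧸ center K) ∣ p ^ 2 := by
    have h2 := card_eq_card_quotient_mul_card_subgroup (center K)
    have h3 : p ∣ Nat.card (center K) := by
      obtain ⟨k, hk⟩ := IsPGroup.iff_card.1 (hP.to_subgroup (center K))
      have h4 : 1 < Nat.card (center K) := Finite.one_lt_card
      rw [hk] at h4 ⊢
      refine dvd_pow_self p ?_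
      rintro rfl
      norm_num at h4
    obtain ⟨m, hm⟩ := h3
    rw [hK, hm] at h2
    refine ⟨m, ?_⟩
    have h5 : p * p ^ 2 = p * (Nat.card (K ⧸ center K) * m) := by
      rw [← pow_succ', h2]; ring
    exact Nat.eq_of_mul_eq_mul_left hp.pos h5
  have h2 := comm_of_le hp h1
  refine ⟨a⁻¹ * (b * a * b⁻¹), ?_, by group, ?_⟩
  · intro h
    apply hab
    rw [inv_mul_eq_one] at h
    calc a * b = (b * a * b⁻¹) * b := by rw [← h]
      _ = b * a := by group
  · have h3 : a⁻¹ * (b * a * b⁻¹) ∈ center K := by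
      rw [← QuotientGroup.eq_one_iff]
      have h4 := h2 (a : K ⧸ center K) (b : K ⧸ center K)
      rw [QuotientGroup.mk_mul, QuotientGroup.mk_mul, QuotientGroup.mk_mul, QuotientGroup.mk_inv, QuotientGroup.mk_inv,
        ← h4, mul_inv_cancel_right, inv_mul_cancel]
    exact fun g => mem_center_iff.1 h3 g

/-! ### The centralizer -/

theorem finrank_Sp : Module.finrank ℚ SigZeroCo2.Lin.Sp = 24 := by
  rw [Module.finrank_fintype_fun_eq_card]
  rfl

section Cent

variable {x : Co0} (hx : orderOf x = 7) (hfree : ∀ v : leechLattice, x • v = v → v = 0)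

include hx hfree

theorem not_two : ¬ 2 ^ 5 ∣ Nat.card (centralizer ({x} : Set Co0)) := by
  have hfin := CoZero.finite_co0
  have hx7 : x ^ 7 = 1 := by rw [← hx, pow_orderOf_eq_one]
  have : Fact (Nat.Prime 2) := ⟨Nat.prime_two⟩
  intro hd
  obtain ⟨K, hK⟩ := Sylow.exists_subgroup_card_pow_prime 2 hd
  have key : ∀ t : ↥(centralizer ({x} : Set Co0)), orderOf t = 2 → (t : Co0) = SporadicA.Co0Basic.negCo0 := by
    intro t ht
    have ht' : orderOf (t : Co0) = 2 := by rw [Subgroup.orderOf_coe, ht]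
    refine FreeInv.eq_neg_of_free (p := 7) (by norm_num) (by norm_num) (by norm_num) hx7 hfree ?_ ?_ ?_
    · rw [← pow_two, ← ht', pow_orderOf_eq_one]
    · intro h0
      rw [h0, orderOf_one] at ht'
      omega
    · exact (mem_centralizer_singleton_iff.1 t.2).symm
  obtain ⟨g, hg⟩ := exists_sixteen hK (fun a b ha hb => Subtype.ext (Subtype.ext
    ((key a (by rw [Subgroup.orderOf_coe, ha])).trans (key b (by rw [Subgroup.orderOf_coe, hb])).symm)))
  have hg' : orderOf (((g : ↥(centralizer ({x} : Set Co0))) : Co0)) = 16 := by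
    rw [Subgroup.orderOf_coe, Subgroup.orderOf_coe, hg]
  have hg8 : orderOf ((g : ↥(centralizer ({x} : Set Co0))) ^ 8) = 2 := by
    rw [orderOf_pow, Subgroup.orderOf_coe, hg]
    norm_num
  have h1 := key _ hg8
  refine no_sixteen SigZeroCo2.Lin.rep finrank_Sp hx7 (fun v hv => TwoPrimes.free_rep hfree hv)
    (g := ((g : ↥(centralizer ({x} : Set Co0))) : Co0)) (mem_centralizer_singleton_iff.1 (g : ↥(centralizer ({x} : Set Co0))).2).symm
    (by rw [← hg', pow_orderOf_eq_one]) ?_
  intro v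
  have h2 : (((g : ↥(centralizer ({x} : Set Co0))) : Co0)) ^ 8 = SporadicA.Co0Basic.negCo0 := h1
  rw [h2]
  by_contra hne
  obtain ⟨w, c, hc, hw⟩ := TwoPrimes.exists_toV v (by
    rintro rfl
    apply hne
    rw [map_zero, neg_zero])
  apply hne
  have h3 : SigZeroCo2.Lin.rep SporadicA.Co0Basic.negCo0 (c • v) = -(c • v) := by
    rw [← hw, SigZeroCo2.Lin.rep_toV]
    have h4 : SporadicA.Co0Basic.negCo0 • w = -w := SporadicA.Co0Basic.negCo0_apply w
    rw [h4]
    funext i
    simp [SigZeroCo2.Lin.toV]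
  rw [map_smul, ← smul_neg] at h3
  exact smul_right_injective _ hc h3

/-- the elements of a 3-subgroup have order at most 3 -/
theorem cube {g : ↥(centralizer ({x} : Set Co0))} {n : ℕ} (hg : g ^ 3 ^ n = 1) : g ^ 3 = 1 := by
  have hx7 : x ^ 7 = 1 := by rw [← hx, pow_orderOf_eq_one]
  induction n generalizing g with
  | zero =>
    rw [pow_zero, pow_one] at hg
    rw [hg, one_pow]
  | succ n ih =>
    have h1 : (g ^ 3) ^ 3 = 1 := ih (by rw [← pow_mul, ← pow_succ', hg])
    apply Subtype.ext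
    refine no_nine SigZeroCo2.Lin.rep SigZeroCo2.Lin.rep_injective finrank_Sp hx7
      (fun v hv => TwoPrimes.free_rep hfree hv) (mem_centralizer_singleton_iff.1 g.2).symm ?_
    rw [show 9 = 3 * 3 by norm_num, pow_mul]
    exact congrArg Subtype.val h1

theorem not_three : ¬ 3 ^ 3 ∣ Nat.card (centralizer ({x} : Set Co0)) := by
  have hfin := CoZero.finite_co0
  have hx7 : x ^ 7 = 1 := by rw [← hx, pow_orderOf_eq_one]
  have : Fact (Nat.Prime 3) := ⟨Nat.prime_three⟩
  intro hd
  obtain ⟨K, hK⟩ := Sylow.exists_subgroup_card_pow_prime 3 hd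
  have h3 : ∀ a ∈ K, a ^ 3 = 1 := by
    intro a ha
    refine cube hx hfree (n := 3) ?_
    have h1 : (⟨a, ha⟩ : ↥K) ^ Nat.card ↥K = 1 := pow_card_eq_one'
    rw [hK] at h1
    exact congrArg Subtype.val h1
  by_cases hcom : ∀ a ∈ K, ∀ b ∈ K, a * b = b * a
  · have h1 : Nat.card ↥(K.map (centralizer ({x} : Set Co0)).subtype) = Nat.card K :=
      card_map_of_injective (Subgroup.subtype_injective _)
    have h2 : Nat.card ↥(K.map (centralizer ({x} : Set Co0)).subtype) ≤ 9 := by
      refine BpSpor.RankBound.card_le_nine SigZeroCo2.Lin.rep SigZeroCo2.Lin.rep_injective finrank_Sp hx7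
        (fun v hv => TwoPrimes.free_rep hfree hv) _ ?_ ?_ ?_
      · rintro _ ⟨a, ha, rfl⟩ _ ⟨b, hb, rfl⟩
        exact congrArg Subtype.val (hcom a ha b hb)
      · rintro _ ⟨a, ha, rfl⟩
        exact congrArg Subtype.val (h3 a ha)
      · rintro _ ⟨a, -, rfl⟩
        exact (mem_centralizer_singleton_iff.1 a.2).symm
    rw [h1, hK] at h2
    norm_num at h2
  · push Not at hcom
    obtain ⟨a, ha, b, hb, hab⟩ := hcom
    obtain ⟨z, hz1, hz2, hz3⟩ := exists_comm Nat.prime_three hK (a := ⟨a, ha⟩) (b := ⟨b, hb⟩)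
      (fun h => hab (congrArg Subtype.val h))
    apply hz1
    apply Subtype.ext
    apply Subtype.ext
    have hv : ∀ {u v : ↥K}, u = v → (((u : ↥(centralizer ({x} : Set Co0))) : Co0)) =
        ((v : ↥(centralizer ({x} : Set Co0))) : Co0) := fun h => by rw [h]
    exact no_heis SigZeroCo2.Lin.rep SigZeroCo2.Lin.rep_injective finrank_Sp hx7
      (fun v hv => TwoPrimes.free_rep hfree hv) (a := (a : Co0)) (b := (b : Co0))
      (z := ((z : ↥(centralizer ({x} : Set Co0))) : Co0)) (mem_centralizer_singleton_iff.1 a.2).symm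
      (mem_centralizer_singleton_iff.1 (z : ↥(centralizer ({x} : Set Co0))).2).symm
      (congrArg Subtype.val (h3 a ha)) (congrArg Subtype.val (h3 z z.2)) (hv (hz3 ⟨a, ha⟩)) (hv hz2) (hv (hz3 ⟨b, hb⟩))

theorem not_five : ¬ 5 ^ 2 ∣ Nat.card (centralizer ({x} : Set Co0)) := by
  have hfin := CoZero.finite_co0
  have hx7 : x ^ 7 = 1 := by rw [← hx, pow_orderOf_eq_one]
  have : Fact (Nat.Prime 5) := ⟨Nat.prime_five⟩
  intro hd
  obtain ⟨K, hK⟩ := Sylow.exists_subgroup_card_pow_prime 5 hd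
  have hcx : ∀ a : ↥(centralizer ({x} : Set Co0)), x * (a : Co0) = a * x := fun a =>
    (mem_centralizer_singleton_iff.1 a.2).symm
  have h5 : ∀ a ∈ K, a ^ 5 = 1 := by
    intro a ha
    apply Subtype.ext
    refine no_twenty_five SigZeroCo2.Lin.rep SigZeroCo2.Lin.rep_injective finrank_Sp hx7
      (fun v hv => TwoPrimes.free_rep hfree hv) (hcx a) ?_
    have h1 : (⟨a, ha⟩ : ↥K) ^ Nat.card ↥K = 1 := pow_card_eq_one'
    rw [hK] at h1
    exact congrArg (fun u : ↥K => ((u : ↥(centralizer ({x} : Set Co0))) : Co0)) h1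
  have hcom := comm_of_le (K := ↥K) Nat.prime_five (by rw [hK])
  have hnt : Nontrivial ↥K := Finite.one_lt_card_iff_nontrivial.1 (by rw [hK]; norm_num)
  obtain ⟨⟨y, hyK⟩, hy⟩ := exists_ne (1 : ↥K)
  have hy1 : y ≠ 1 := fun h => hy (Subtype.ext h)
  obtain ⟨z, hzK, hz⟩ : ∃ z ∈ K, z ∉ zpowers y := by
    by_contra hcon
    push Not at hcon
    have h1 : Nat.card ↥K ≤ Nat.card ↥(zpowers y) := Nat.card_mono (Set.toFinite _) hcon
    rw [hK, Nat.card_zpowers] at h1
    have h2 := orderOf_le_of_pow_eq_one (by norm_num) (h5 y hyK)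
    omega
  obtain ⟨i, -, hi⟩ := no_five SigZeroCo2.Lin.rep SigZeroCo2.Lin.rep_injective finrank_Sp hx7
      (fun v hv => TwoPrimes.free_rep hfree hv) (y := (y : Co0)) (z := (z : Co0)) (hcx y) (hcx z)
      (congrArg (fun u : ↥K => ((u : ↥(centralizer ({x} : Set Co0))) : Co0)) (hcom ⟨y, hyK⟩ ⟨z, hzK⟩))
      (congrArg Subtype.val (h5 y hyK)) (congrArg Subtype.val (h5 z hzK)) (fun h => hy1 (Subtype.ext h))
  apply hz
  have h1 : y ^ i * z = 1 := Subtype.ext hi
  rw [← inv_eq_iff_mul_eq_one.2 h1]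
  exact inv_mem (pow_mem (mem_zpowers y) i)

end Cent

/-! ### The order -/

theorem reduce {p n M : ℕ} (hp : p.Prime) (a b : ℕ) (hn : n ≠ 0) (h : n ∣ p ^ a * M) (hd : ¬ p ^ (b + 1) ∣ n) : n ∣ p ^ b * M := by
  obtain ⟨c, m, hm, rfl⟩ := Nat.exists_eq_pow_mul_and_not_dvd hn p hp.ne_one
  have h1 : c ≤ b := by
    by_contra hc
    push Not at hc
    exact hd (Dvd.dvd.mul_right (pow_dvd_pow p hc) m)
  have h2 : m ∣ M := by
    have h3 : m ∣ p ^ a * M := (dvd_mul_left m _).trans h
    exact (Nat.Coprime.pow_right a ((Nat.Prime.coprime_iff_not_dvd hp).2 hm).symm).dvd_of_dvd_mul_left h3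
  exact mul_dvd_mul (pow_dvd_pow p h1) h2

theorem card_dvd {x : Co0} (hx : orderOf x = 7) (hfree : ∀ v : leechLattice, x • v = v → v = 0) :
    Nat.card (centralizer ({x} : Set Co0)) ∣ 35280 := by
  have hfin := CoZero.finite_co0
  have h0 : Nat.card (centralizer ({x} : Set Co0)) ≠ 0 := Nat.card_pos.ne'
  have h1 : Nat.card (centralizer ({x} : Set Co0)) ∣ 8315553613086720000 := by
    have := card_subgroup_dvd_card (centralizer ({x} : Set Co0))
    rwa [S0397.result] at this
  have hq : ∀ q : ℕ, q.Prime → 7 ≠ q → 24 < (q - 1) * (7 - 1) → ¬ q ^ (0 + 1) ∣ Nat.card (centralizer ({x} : Set Co0)) := by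
    intro q hq h7 hbig
    rw [zero_add, pow_one]
    exact TwoPrimes.not_dvd_of_free (by norm_num) hq h7 hbig hx hfree
  have h2 := reduce Nat.prime_two 22 4 h0 (M := 3 ^ 9 * 5 ^ 4 * 7 ^ 2 * 11 * 13 * 23) (by
    refine h1.trans ?_
    norm_num) (not_two hx hfree)
  have h3 := reduce Nat.prime_three 9 2 h0 (M := 2 ^ 4 * (5 ^ 4 * 7 ^ 2 * 11 * 13 * 23)) (by
    refine h2.trans ?_
    norm_num) (not_three hx hfree)
  have h4 := reduce Nat.prime_five 4 1 h0 (M := 3 ^ 2 * (2 ^ 4 * (7 ^ 2 * 11 * 13 * 23))) (by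
    refine h3.trans ?_
    norm_num) (not_five hx hfree)
  have h5 := reduce (p := 11) (by norm_num) 1 0 h0 (M := 5 ^ 1 * (3 ^ 2 * (2 ^ 4 * (7 ^ 2 * 13 * 23)))) (by
    refine h4.trans ?_
    norm_num) (hq 11 (by norm_num) (by norm_num) (by norm_num))
  have h6 := reduce (p := 13) (by norm_num) 1 0 h0 (M := 11 ^ 0 * (5 ^ 1 * (3 ^ 2 * (2 ^ 4 * (7 ^ 2 * 23))))) (by
    refine h5.trans ?_
    norm_num) (hq 13 (by norm_num) (by norm_num) (by norm_num))
  have h7 := reduce (p := 23) (by norm_num) 1 0 h0 (M := 13 ^ 0 * (11 ^ 0 * (5 ^ 1 * (3 ^ 2 * (2 ^ 4 * (7 ^ 2)))))) (by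
    refine h6.trans ?_
    norm_num) (hq 23 (by norm_num) (by norm_num) (by norm_num))
  refine h7.trans ?_
  norm_num

end Cfsg.Agent.H813.CoSevenCard
end

-- part: H813/CoSevenMain
section
set_option linter.all false
open scoped Cfsg.Agent.FastGrp

/-!
# Local subgroups `7 × A7` and `S3 × A9` of `Co1` (helper813)

* `cent_seven` : a subgroup of order 7 with centralizer `7 × A7`;
* `norm_three` : a subgroup of order 3 with normalizer `S3 × A9`.
-/

set_option autoImplicit false

namespace Cfsg.Agent.H813.CoSevenMain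

open Subgroup

/-! ### General lemmas -/

section Gen

variable {G H : Type*} [Group G] [Group H]

theorem map_centralizer (e : G ≃* H) (V : Subgroup H) :
    (centralizer ((V.comap (e : G →* H) : Subgroup G) : Set G)).map (e : G →* H) = centralizer (V : Set H) := by
  ext h
  constructor
  · rintro ⟨g, hg, rfl⟩
    rw [mem_centralizer_iff]
    intro v hv
    have h1 := mem_centralizer_iff.1 hg (e.symm v) (by
      change e (e.symm v) ∈ V
      rw [e.apply_symm_apply]; exact hv)
    have h2 := congrArg e h1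
    rw [map_mul, map_mul, e.apply_symm_apply] at h2
    exact h2
  · intro hh
    refine ⟨e.symm h, ?_, e.apply_symm_apply h⟩
    rw [SetLike.mem_coe, mem_centralizer_iff]
    intro g hg
    apply e.injective
    rw [map_mul, map_mul, e.apply_symm_apply]
    exact mem_centralizer_iff.1 hh (e g) hg

theorem map_normalizer (e : G ≃* H) (V : Subgroup H) :
    (normalizer ((V.comap (e : G →* H) : Subgroup G) : Set G)).map (e : G →* H) = normalizer (V : Set H) := by
  ext h
  constructor
  · rintro ⟨g, hg, rfl⟩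
    rw [mem_normalizer_iff]
    intro v
    have h1 := mem_normalizer_iff.1 hg (e.symm v)
    rw [mem_comap, mem_comap] at h1
    simpa only [_root_.MonoidHom.coe_coe, _root_.MulEquiv.apply_symm_apply, _root_.map_mul, _root_.map_inv] using h1
  · intro hh
    refine ⟨e.symm h, ?_, e.apply_symm_apply h⟩
    rw [SetLike.mem_coe, mem_normalizer_iff]
    intro g
    have h1 := mem_normalizer_iff.1 hh (e g)
    rw [mem_comap, mem_comap]
    simpa only [_root_.MonoidHom.coe_coe, _root_.map_mul, _root_.MulEquiv.apply_symm_apply, _root_.map_inv] using h1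

theorem centralizer_zpowers (x : G) : centralizer ((zpowers x : Subgroup G) : Set G) = centralizer {x} := by
  apply le_antisymm
  · exact centralizer_le (Set.singleton_subset_iff.2 (mem_zpowers x))
  · intro g hg
    rw [mem_centralizer_iff]
    rintro _ ⟨n, rfl⟩
    have h1 : Commute g x := mem_centralizer_singleton_iff.1 hg
    exact ((h1.zpow_right n).eq).symm

theorem cent_equiv [Finite G] {A : Subgroup G} {x : G} (hA : A ≤ centralizer {x}) (hZ : center ↥A = ⊥)
    (hc : Nat.card ↥(centralizer ({x} : Set G)) ≤ orderOf x * Nat.card ↥A) :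
    Nonempty (↥(centralizer ({x} : Set G)) ≃* ↥(zpowers x) × ↥A) := by
  have hcomm : ∀ (m : ↥(zpowers x)) (n : ↥A), Commute ((zpowers x).subtype m) (A.subtype n) := by
    rintro ⟨m, hm⟩ ⟨n, hn⟩
    obtain ⟨k, rfl⟩ := mem_zpowers_iff.1 hm
    have h1 : Commute n x := mem_centralizer_singleton_iff.1 (hA hn)
    exact (h1.zpow_right k).symm
  let φ : ↥(zpowers x) × ↥A →* G := MonoidHom.noncommCoprod (zpowers x).subtype A.subtype hcomm
  have hφ : ∀ p, φ p = (p.1 : G) * (p.2 : G) := fun p => rfl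
  have hinj : Function.Injective φ := by
    rw [injective_iff_map_eq_one]
    rintro ⟨⟨m, hm⟩, ⟨n, hn⟩⟩ h
    rw [hφ] at h
    have h1 : m * n = 1 := h
    have h2 : n = m⁻¹ := (inv_eq_of_mul_eq_one_right h1).symm
    have h3 : (⟨n, hn⟩ : ↥A) ∈ center ↥A := by
      rw [mem_center_iff]
      rintro ⟨a, ha⟩
      apply Subtype.ext
      have h4 : Commute m a := hcomm ⟨m, hm⟩ ⟨a, ha⟩
      change a * n = n * a
      rw [h2]
      exact h4.inv_left.eq.symm
    rw [hZ, mem_bot] at h3
    have h4 : n = 1 := congrArg Subtype.val h3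
    have h5 : m = 1 := by rw [h4, mul_one] at h1; exact h1
    subst h4 h5
    rfl
  have hrange : φ.range = centralizer ({x} : Set G) := by
    apply eq_of_le_of_card_ge
    · rintro _ ⟨p, rfl⟩
      rw [hφ]
      refine mul_mem ?_ (hA p.2.2)
      obtain ⟨k, hk⟩ := mem_zpowers_iff.1 p.1.2
      rw [← hk, mem_centralizer_singleton_iff]
      exact ((Commute.refl x).zpow_left k).eq
    · refine hc.trans ?_
      rw [← Nat.card_zpowers, ← Nat.card_prod]
      exact (Nat.card_congr (MonoidHom.ofInjective hinj).toEquiv).le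
  exact ⟨((MonoidHom.ofInjective hinj).trans (MulEquiv.subgroupCongr hrange)).symm⟩

/-- The normalizer of a subgroup of order three inverted by an involution commuting with `A`. -/
theorem norm_equiv {A : Subgroup G} {x t : G} (hx : orderOf x = 3) (hA : A ≤ centralizer {x}) (hZ : center ↥A = ⊥)
    (hs : A ⊔ zpowers x = centralizer {x}) (ht : t * t = 1) (hxt : t * x * t = x⁻¹) (htA : A ≤ centralizer {t}) :
    Nonempty (↥(normalizer ((zpowers x : Subgroup G) : Set G)) ≃* DihedralGroup 3 × ↥A) := by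
  have hx3 : x ^ 3 = 1 := by rw [← hx, pow_orderOf_eq_one]
  have hti : t⁻¹ = t := inv_eq_of_mul_eq_one_left ht
  obtain ⟨f, hf1, hf2⟩ := SporadicB.DihedralLift.exists_dihedral_hom 3 ht hx3 hxt
  have hfr : ∀ d, (∃ k : ℤ, d = DihedralGroup.r (k : ZMod 3) ∧ f d = x ^ k) ∨
      (∃ k : ℤ, d = DihedralGroup.sr (k : ZMod 3) ∧ f d = t * x ^ k) := by
    rintro (i | i) <;> obtain ⟨k, rfl⟩ := ZMod.intCast_surjective i
    · exact Or.inl ⟨k, rfl, hf1 k⟩
    · exact Or.inr ⟨k, rfl, hf2 k⟩
  have hcomm : ∀ (m : DihedralGroup 3) (n : ↥A), Commute (f m) (A.subtype n) := by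
    rintro m ⟨n, hn⟩
    have h1 : Commute n x := mem_centralizer_singleton_iff.1 (hA hn)
    have h2 : Commute n t := mem_centralizer_singleton_iff.1 (htA hn)
    rcases hfr m with ⟨k, -, hk⟩ | ⟨k, -, hk⟩
    · rw [hk]
      exact (h1.zpow_right k).symm
    · rw [hk]
      exact (h2.mul_right (h1.zpow_right k)).symm
  have hfinj : Function.Injective f := by
    rw [injective_iff_map_eq_one]
    intro d hd
    rcases hfr d with ⟨k, rfl, hk⟩ | ⟨k, rfl, hk⟩
    · rw [hk, ← orderOf_dvd_iff_zpow_eq_one, hx] at hd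
      rw [DihedralGroup.one_def, (ZMod.intCast_zmod_eq_zero_iff_dvd k 3).mpr hd]
    · exfalso
      rw [hk] at hd
      have h1 : t = (x ^ k)⁻¹ := eq_inv_of_mul_eq_one_left hd
      have h2 : Commute t x := by
        rw [h1]
        exact ((Commute.refl x).zpow_left k).inv_left
      have h3 : x⁻¹ = x := by rw [← hxt, h2.eq, mul_assoc, ht, mul_one]
      have h4 : x ^ 2 = 1 := by rw [pow_two]; nth_rewrite 1 [← h3]; exact inv_mul_cancel x
      have h5 := orderOf_dvd_of_pow_eq_one h4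
      rw [hx] at h5
      omega
  let φ : DihedralGroup 3 × ↥A →* G := MonoidHom.noncommCoprod f A.subtype hcomm
  have hφ : ∀ p, φ p = f p.1 * (p.2 : G) := fun p => rfl
  have hinj : Function.Injective φ := by
    rw [injective_iff_map_eq_one]
    rintro ⟨m, ⟨n, hn⟩⟩ h
    rw [hφ] at h
    have h1 : f m * n = 1 := h
    have h2 : n = (f m)⁻¹ := (inv_eq_of_mul_eq_one_right h1).symm
    have h3 : (⟨n, hn⟩ : ↥A) ∈ center ↥A := by
      rw [mem_center_iff]
      rintro ⟨a, ha⟩
      apply Subtype.ext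
      have h4 : Commute (f m) a := hcomm m ⟨a, ha⟩
      change a * n = n * a
      rw [h2]
      exact h4.inv_left.eq.symm
    rw [hZ, mem_bot] at h3
    have h4 : n = 1 := congrArg Subtype.val h3
    have h5 : f m = f 1 := by rw [h4, mul_one] at h1; rw [h1, map_one]
    have h6 := hfinj h5
    subst h4 h6
    rfl
  have hxN : zpowers x ≤ φ.range := by
    rw [zpowers_le]
    refine ⟨(DihedralGroup.r ((1 : ℤ) : ZMod 3), 1), ?_⟩
    rw [hφ]
    change f (DihedralGroup.r ((1 : ℤ) : ZMod 3)) * ((1 : ↥A) : G) = x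
    rw [hf1, zpow_one, Subgroup.coe_one, mul_one]
  have htN : t ∈ φ.range := by
    refine ⟨(DihedralGroup.sr ((0 : ℤ) : ZMod 3), 1), ?_⟩
    rw [hφ]
    change f (DihedralGroup.sr ((0 : ℤ) : ZMod 3)) * ((1 : ↥A) : G) = t
    rw [hf2, zpow_zero, mul_one, Subgroup.coe_one, mul_one]
  have hAN : A ≤ φ.range := by
    intro a ha
    refine ⟨(1, ⟨a, ha⟩), ?_⟩
    rw [hφ]
    change f 1 * a = a
    rw [map_one, one_mul]
  have hCN : centralizer {x} ≤ φ.range := by
    rw [← hs]
    exact sup_le hAN hxN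
  -- the normalizer
  have hmemN : ∀ g, (g * x * g⁻¹ = x ∨ g * x * g⁻¹ = x⁻¹) → g ∈ normalizer ((zpowers x : Subgroup G) : Set G) := by
    intro g hg
    have key : ∀ n : ℤ, g * x ^ n * g⁻¹ ∈ zpowers x := by
      intro n
      have h1 : g * x ^ n * g⁻¹ = (g * x * g⁻¹) ^ n := by rw [conj_zpow]
      rw [h1]
      rcases hg with h | h <;> rw [h]
      · exact zpow_mem (mem_zpowers x) n
      · exact zpow_mem (inv_mem (mem_zpowers x)) n
    have key' : ∀ n : ℤ, g⁻¹ * x ^ n * g ∈ zpowers x := by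
      intro n
      have h0 : g⁻¹ * x * g = x ∨ g⁻¹ * x * g = x⁻¹ := by
        rcases hg with h | h
        · left
          nth_rewrite 1 [← h]
          group
        · right
          have h1 : x = (g * x * g⁻¹)⁻¹ := by rw [h, inv_inv]
          nth_rewrite 1 [h1]
          group
      have h1 : g⁻¹ * x ^ n * g = (g⁻¹ * x * g) ^ n := by
        have := conj_zpow (a := g⁻¹) (b := x) (i := n)
        rw [inv_inv] at this
        exact this.symm
      rw [h1]
      rcases h0 with h | h <;> rw [h]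
      · exact zpow_mem (mem_zpowers x) n
      · exact zpow_mem (inv_mem (mem_zpowers x)) n
    rw [mem_normalizer_iff]
    intro y
    constructor
    · rintro ⟨n, rfl⟩
      exact key n
    · rintro ⟨n, hn⟩
      have h1 : x ^ n = g * y * g⁻¹ := hn
      have h2 := key' n
      rw [h1] at h2
      have h3 : g⁻¹ * (g * y * g⁻¹) * g = y := by group
      rwa [h3] at h2
  have hrange : φ.range = normalizer ((zpowers x : Subgroup G) : Set G) := by
    apply le_antisymm
    · rintro _ ⟨p, rfl⟩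
      rw [hφ]
      refine mul_mem ?_ ?_
      · rcases hfr p.1 with ⟨k, -, hk⟩ | ⟨k, -, hk⟩
        · rw [hk]
          exact hmemN _ (Or.inl (by
            have h1 : Commute (x ^ k) x := (Commute.refl x).zpow_left k
            rw [h1.eq, mul_inv_cancel_right]))
        · rw [hk]
          refine mul_mem (hmemN _ (Or.inr (by rw [hti, hxt]))) (hmemN _ (Or.inl ?_))
          have h1 : Commute (x ^ k) x := (Commute.refl x).zpow_left k
          rw [h1.eq, mul_inv_cancel_right]
      · apply hmemN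
        left
        have h1 : (p.2 : G) * x = x * p.2 := mem_centralizer_singleton_iff.1 (hA p.2.2)
        rw [h1, mul_inv_cancel_right]
    · intro g hg
      have h1 : g * x * g⁻¹ ∈ zpowers x := (mem_normalizer_iff.1 hg x).1 (mem_zpowers x)
      obtain ⟨n, hn⟩ := mem_zpowers_iff.1 h1
      have h2 : x ^ n = x ^ (n % 3) := by
        conv_lhs => rw [← Int.emod_add_mul_ediv n 3, zpow_add, zpow_mul]
        have : x ^ (3 : ℤ) = 1 := by exact_mod_cast hx3
        rw [this, one_zpow, mul_one]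
      have h3 : n % 3 = 0 ∨ n % 3 = 1 ∨ n % 3 = 2 := by omega
      rcases h3 with h3 | h3 | h3
      · exfalso
        rw [h2, h3, zpow_zero] at hn
        have h4 : x = 1 := conj_eq_one_iff.1 hn.symm
        rw [h4, orderOf_one] at hx
        omega
      · apply hCN
        rw [mem_centralizer_singleton_iff]
        rw [h2, h3, zpow_one] at hn
        exact (eq_mul_inv_iff_mul_eq.1 hn).symm
      · have h4 : g * x * g⁻¹ = x⁻¹ := by
          rw [← hn, h2, h3, eq_inv_iff_mul_eq_one]
          have : x ^ (2 : ℤ) = x ^ 2 := by exact_mod_cast zpow_natCast x 2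
          rw [this, ← pow_succ, hx3]
        have h5 : t * g ∈ centralizer {x} := by
          rw [mem_centralizer_singleton_iff]
          have h6 : g * x = x⁻¹ * g := mul_inv_eq_iff_eq_mul.1 h4
          have h7 : t * x⁻¹ = x * t := by
            rw [← hxt, ← mul_assoc, ← mul_assoc, ht, one_mul]
          rw [mul_assoc, h6, ← mul_assoc, h7, mul_assoc]
        have h6 : g = t * (t * g) := by rw [← mul_assoc, ht, one_mul]
        rw [h6]
        exact mul_mem htN (hCN h5)
  exact ⟨((MonoidHom.ofInjective hinj).trans (MulEquiv.subgroupCongr hrange)).symm⟩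

end Gen

/-! ### The subgroup `7 × A7` -/

open Cfsg Cfsg.Agent.SporadicA Cfsg.Agent.CpAutBig
open Cfsg.Agent.LThreeCo1T8 Cfsg.Agent.LThreeCo1T8.Main Cfsg.Agent.H813.CoSevenData

/-- the projection -/
local notation "prV" => Cfsg.Agent.CoOneType.CoEval.pr

/-- the element of order seven -/
noncomputable def pp : Spor.Co1 := prV p0

/-- the involution -/
noncomputable def tt : Spor.Co1 := prV t0

theorem pr_mul (a b : Co0) : prV (a * b) = prV a * prV b := map_mul (QuotientGroup.mk' (Subgroup.center Co0)) a b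

theorem pr_s : prV s0 = ss :=
  congrArg prV ((show s0 = SporadicStructure.Co0Matrix.mk LThreeCo1T8.Mat.okS from rfl).trans (show LThreeCo1T8.Mat.e 0 = SporadicStructure.Co0Matrix.mk LThreeCo1T8.Mat.okS from rfl).symm)

theorem pr_g : prV g0 = gg :=
  congrArg prV ((show g0 = SporadicStructure.Co0Matrix.mk LThreeCo1T8.Mat.okG from rfl).trans (show LThreeCo1T8.Mat.e 1 = SporadicStructure.Co0Matrix.mk LThreeCo1T8.Mat.okG from rfl).symm)

theorem pr_x : prV x0 = xx :=
  (congrArg prV ((show x0 = SporadicStructure.Co0Matrix.mk LThreeCo1T8.Mat.okX from rfl).trans (show LThreeCo1T8.Mat.e 2 = SporadicStructure.Co0Matrix.mk LThreeCo1T8.Mat.okX from rfl).symm)).trans e2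

theorem order_p0 : orderOf p0 = 7 := by
  have : Fact (Nat.Prime 7) := ⟨by norm_num⟩
  refine orderOf_eq_prime p0_pow ?_
  intro h
  have h1 := free_p0 CoOneType.CoEval.beta (by rw [h, one_smul])
  have h2 := CoOneType.CoEval.beta_coe
  rw [h1] at h2
  have h3 := congrFun h2 (GolayBase.pt 0)
  rw [CoOneType.CoEval.vec_betaL] at h3
  have h4 : (8 : ℤ) * 64 ^ GolayBase.idx (GolayBase.pt 0) = 0 := h3.symm
  have h5 : (0 : ℤ) < 8 * 64 ^ GolayBase.idx (GolayBase.pt 0) := by positivity
  omega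

theorem pp_pow : pp ^ 7 = 1 := by
  have h : prV (p0 ^ 7) = pp ^ 7 := map_pow (QuotientGroup.mk' (Subgroup.center Co0)) p0 7
  rw [← h, p0_pow]
  exact map_one (QuotientGroup.mk' (Subgroup.center Co0))

theorem comap_cent : (centralizer {pp}).comap (QuotientGroup.mk' (Subgroup.center Co0)) = centralizer {p0} := by
  ext g
  rw [mem_comap, mem_centralizer_singleton_iff, mem_centralizer_singleton_iff]
  constructor
  · intro h
    exact (Cfsg.Agent.LThreeBX.NoSeven.comm_of_mk (n := 7) (by decide) p0_pow (a := p0) (b := g) h.symm).symm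
  · intro h
    have h1 : prV (g * p0) = prV (p0 * g) := by rw [h]
    rw [pr_mul, pr_mul] at h1
    exact h1

theorem card_cent_pp : Nat.card ↥(centralizer ({pp} : Set Spor.Co1)) ≤ 17640 := by
  have hc : Nat.card ↥(center Co0) = 2 := Cfsg.Agent.S0398.result
  have h1 : ((centralizer ({pp} : Set Spor.Co1)).comap (QuotientGroup.mk' (Subgroup.center Co0))).index =
      (centralizer ({pp} : Set Spor.Co1)).index :=
    Subgroup.index_comap_of_surjective _ (QuotientGroup.mk'_surjective _)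
  rw [comap_cent] at h1
  have h2 := Subgroup.card_mul_index (centralizer ({p0} : Set Co0))
  have h3 := Subgroup.card_mul_index (centralizer ({pp} : Set Spor.Co1))
  have h4 : Nat.card Co0 = Nat.card Spor.Co1 * Nat.card ↥(center Co0) := card_eq_card_quotient_mul_card_subgroup _
  rw [hc] at h4
  have h5 : Nat.card ↥(centralizer ({p0} : Set Co0)) * (centralizer ({p0} : Set Co0)).index =
      (2 * Nat.card ↥(centralizer ({pp} : Set Spor.Co1))) * (centralizer ({p0} : Set Co0)).index := by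
    rw [h2, h4, ← h3, h1]
    ring
  have h6 := Nat.eq_of_mul_eq_mul_right (Nat.pos_of_ne_zero (centralizer ({p0} : Set Co0)).index_ne_zero_of_finite) h5
  have h7 := Nat.le_of_dvd (by norm_num) (CoSevenCard.card_dvd order_p0 free_p0)
  omega

/-- the subgroup `A₇` -/
def BB : Subgroup Spor.Co1 := Lib.AltCarmichael.gen 5 (Abs.sq ss gg)

theorem BB_equiv : Nonempty (↥BB ≃* alternatingGroup (Fin 7)) :=
  Lib.AltCarmichael.nonempty_gen_equiv (m := 5) (by norm_num) ((Abs.rel_of s_pow g_pow r1 r2 r3).mono (by norm_num))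
    ⟨0, by norm_num, by
      change gg ^ 0 * ss * (gg ^ 0)⁻¹ ≠ 1
      rw [pow_zero, one_mul, inv_one, mul_one]
      exact s_ne⟩

theorem comm_sq : ∀ i < 5, Commute (Abs.sq ss gg i) pp := by
  intro i hi
  have key : ∀ w : Co0, p0 * w = w * p0 → Commute (prV w) pp := by
    intro w hw
    have h1 : prV (w * p0) = prV (p0 * w) := by rw [hw]
    rw [pr_mul, pr_mul] at h1
    exact h1
  have hw : ∀ i : ℕ, prV (g0 ^ i * s0 * (g0 ^ i)⁻¹) = Abs.sq ss gg i := by
    intro i
    have h1 : prV (g0 ^ i) = prV g0 ^ i := map_pow (QuotientGroup.mk' (Subgroup.center Co0)) g0 i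
    rw [pr_mul, pr_mul, pr_inv, h1, pr_g, pr_s]
    rfl
  rw [← hw]
  apply key
  interval_cases i
  · simpa only [_root_.pow_zero, _root_.one_mul, _root_.inv_one, _root_.mul_one] using ps0
  · have h := ps1
    simp only [pow_succ, pow_zero, one_mul, mul_inv_rev, mul_assoc] at h ⊢
    exact h
  · have h := ps2
    simp only [pow_succ, pow_zero, one_mul, mul_inv_rev, mul_assoc] at h ⊢
    exact h
  · have h := ps3
    simp only [pow_succ, pow_zero, one_mul, mul_inv_rev, mul_assoc] at h ⊢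
    exact h
  · have h := ps4
    simp only [pow_succ, pow_zero, one_mul, mul_inv_rev, mul_assoc] at h ⊢
    exact h

theorem BB_le : BB ≤ centralizer {pp} := by
  rw [BB, Lib.AltCarmichael.gen_def, closure_le]
  rintro _ ⟨i, hi, rfl⟩
  rw [SetLike.mem_coe, mem_centralizer_singleton_iff]
  exact comm_sq i hi

theorem card_BB : Nat.card ↥BB = 2520 := by
  obtain ⟨f⟩ := BB_equiv
  have : Nontrivial (Fin 7) := inferInstance
  have h := nat_card_alternatingGroup (α := Fin 7)
  rw [Nat.card_eq_fintype_card (α := Fin 7), Fintype.card_fin] at h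
  rw [Nat.card_congr f.toEquiv, h]
  decide

instance simple_BB : IsSimpleGroup ↥BB := by
  obtain ⟨f⟩ := BB_equiv
  have : IsSimpleGroup (alternatingGroup (Fin 7)) :=
    alternatingGroup.isSimpleGroup (by rw [Nat.card_eq_fintype_card, Fintype.card_fin]; norm_num)
  exact (CpQuot.Congr.isSimple_iff f).2 this

theorem BB_not_comm : ¬ IsMulCommutative ↥BB := by
  intro hc
  let _ : CommGroup ↥BB := { (inferInstance : Group ↥BB) with mul_comm := hc.is_comm.comm }
  have h1 : (Nat.card ↥BB).Prime := IsSimpleGroup.prime_card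
  rw [card_BB] at h1
  exact absurd h1 (by norm_num)

theorem BB_center : center ↥BB = ⊥ := CpAut.Fix.center_eq_bot BB_not_comm

theorem pp_ne : pp ≠ 1 := by
  intro h
  have h1 : p0 ∈ center Co0 := (QuotientGroup.eq_one_iff _).1 h
  have h2 : centralizer ({p0} : Set Co0) = ⊤ := by
    rw [eq_top_iff]
    intro g _
    rw [mem_centralizer_singleton_iff]
    exact mem_center_iff.1 h1 g
  have h3 := CoSevenCard.card_dvd order_p0 free_p0
  rw [h2, Subgroup.card_top, S0397.result] at h3
  have := Nat.le_of_dvd (by norm_num) h3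
  omega

theorem order_pp : orderOf pp = 7 := by
  have : Fact (Nat.Prime 7) := ⟨by norm_num⟩
  exact orderOf_eq_prime pp_pow pp_ne

/-- **A subgroup of order 7 with centralizer `7 × A7`.** -/
theorem cent_seven : ∃ V : Subgroup Spor.Co1, Nat.card V = 7 ∧
    Nonempty (↥(centralizer (V : Set Spor.Co1)) ≃* Multiplicative (ZMod 7) × alternatingGroup (Fin 7)) := by
  refine ⟨zpowers pp, by rw [Nat.card_zpowers, order_pp], ?_⟩
  have h1 := centralizer_zpowers pp
  obtain ⟨e⟩ := cent_equiv BB_le BB_center (by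
    rw [order_pp, card_BB]
    exact card_cent_pp)
  obtain ⟨f⟩ := BB_equiv
  have hc : Nat.card ↥(zpowers pp) = Nat.card (Multiplicative (ZMod 7)) := by
    rw [Nat.card_zpowers, order_pp, Nat.card_congr Multiplicative.toAdd, Nat.card_zmod]
  let g : ↥(zpowers pp) ≃* Multiplicative (ZMod 7) := mulEquivOfCyclicCardEq hc
  exact ⟨((MulEquiv.subgroupCongr h1).trans e).trans (MulEquiv.prodCongr g f)⟩

/-! ### The subgroup `S3 × A9` -/

theorem tt_sq : tt * tt = 1 := by
  rw [tt, ← pr_mul, t0_sq]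
  exact map_one (QuotientGroup.mk' (Subgroup.center Co0))

theorem tt_conj : tt * xx * tt = xx⁻¹ := by
  rw [eq_inv_iff_mul_eq_one]
  have h : prV (t0 * (x0 * (t0 * x0))) = prV (t0 * t0) := by rw [xtx]
  rw [pr_mul, pr_mul, pr_mul, pr_mul, pr_x] at h
  have h1 : tt * (xx * (tt * xx)) = tt * tt := h
  rw [tt_sq] at h1
  rw [mul_assoc, mul_assoc]
  exact h1

theorem AA_tt : AA ≤ centralizer {tt} := by
  rw [AA, Lib.AltCarmichael.gen_def, closure_le]
  rintro _ ⟨i, -, rfl⟩
  rw [SetLike.mem_coe, mem_centralizer_singleton_iff]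
  have h1 : Commute gg tt := by
    have h : prV (t0 * g0) = prV (g0 * t0) := by rw [tg]
    rw [pr_mul, pr_mul, pr_g] at h
    exact h.symm
  have h2 : Commute ss tt := by
    have h : prV (t0 * s0) = prV (s0 * t0) := by rw [ts]
    rw [pr_mul, pr_mul, pr_s] at h
    exact h.symm
  have h3 : Commute (gg ^ i) tt := h1.pow_left i
  exact (h3.mul_left h2).mul_left h3.inv_left

/-- **A subgroup of order 3 with normalizer `S3 × A9`.** -/
theorem norm_three : ∃ W : Subgroup Spor.Co1, Nat.card W = 3 ∧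
    Nonempty (↥(normalizer (W : Set Spor.Co1)) ≃* Equiv.Perm (Fin 3) × alternatingGroup (Fin 9)) := by
  refine ⟨zpowers xx, by rw [Nat.card_zpowers, order_x], ?_⟩
  obtain ⟨e⟩ := norm_equiv order_x AA_le center_eq sup_eq tt_sq tt_conj AA_tt
  obtain ⟨f⟩ := nonempty_equiv
  obtain ⟨g⟩ := SporadicB.DihedralLift.dihedral_three_equiv_perm
  exact ⟨e.trans (MulEquiv.prodCongr g f)⟩

theorem transfer {G : Type*} [Group G] (i : G ≃* Spor.Co1) :
    (∃ V : Subgroup G, Nat.card V = 7 ∧
      Nonempty (↥(centralizer (V : Set G)) ≃* Multiplicative (ZMod 7) × alternatingGroup (Fin 7))) ∧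
    ∃ W : Subgroup G, Nat.card W = 3 ∧
      Nonempty (↥(normalizer (W : Set G)) ≃* Equiv.Perm (Fin 3) × alternatingGroup (Fin 9)) := by
  have hcard : ∀ V : Subgroup Spor.Co1, Nat.card ↥(V.comap (i : G →* Spor.Co1)) = Nat.card V := by
    intro V
    exact Nat.card_congr ((i.toEquiv).subtypeEquiv fun _ => Iff.rfl)
  constructor
  · obtain ⟨V, hV, ⟨e⟩⟩ := cent_seven
    refine ⟨V.comap (i : G →* Spor.Co1), by rw [hcard, hV], ⟨?_⟩⟩
    exact ((i.subgroupMap _).trans (MulEquiv.subgroupCongr (map_centralizer i V))).trans e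
  · obtain ⟨V, hV, ⟨e⟩⟩ := norm_three
    refine ⟨V.comap (i : G →* Spor.Co1), by rw [hcard, hV], ⟨?_⟩⟩
    exact ((i.subgroupMap _).trans (MulEquiv.subgroupCongr (map_normalizer i V))).trans e

end Cfsg.Agent.H813.CoSevenMain

private theorem dce_2badfc81c5ae : _root_.True := by
  try have : _root_.True := by simp only [_root_.Cfsg.Agent.H813.CoSevenMain.BB.eq_1]
  try have : _root_.True := by simp only [_root_.Cfsg.Agent.H813.CoSevenMain.tt.eq_1]
  exact _root_.True.intro
end

-- part: H961/SevX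
section
set_option linter.all false
open scoped Cfsg.Agent.FastGrp

/-!
# `C(s)/⟨s⟩ ≅ A7` for the elements `s` of order 7 of `Co1` without fixed points on `Λ/2Λ` (helper961)
-/

set_option autoImplicit false

namespace Cfsg.Agent.H961.SevX

open Cfsg Subgroup
open Cfsg.Agent.LThreeMB (fr XX Zx self mk mk_eq_one exists_XX_equiv)
open Cfsg.Agent.H813.CoSevenMain
open Cfsg.Spor (Co1)

theorem card_cent {G : Type*} [Group G] (x : G) :
    Nat.card ↥(centralizer ({x} : Set G)) = Nat.card (XX x) * orderOf x := by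
  rw [Subgroup.card_eq_card_quotient_mul_card_subgroup (Zx x)]
  congr 1
  change Nat.card ↥(zpowers (self x)) = _
  rw [Nat.card_zpowers, ← Subgroup.orderOf_coe]
  rfl

/-- a subgroup of `C(x)` with trivial centre and the right order -/
theorem quot_equiv {G : Type*} [Group G] [Finite G] {x : G} {A : Subgroup G} (hA : A ≤ centralizer ({x} : Set G))
    (hZ : center ↥A = ⊥) (hc : Nat.card ↥(centralizer ({x} : Set G)) ≤ Nat.card ↥A * orderOf x) :
    Nonempty (↥A ≃* XX x) := by
  let φ : ↥A →* XX x := (QuotientGroup.mk' (Zx x)).comp (inclusion hA)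
  have hinj : Function.Injective φ := by
    rw [injective_iff_map_eq_one]
    rintro ⟨a, ha⟩ h
    have hax : a * x = x * a := mem_centralizer_singleton_iff.1 (hA ha)
    have h1 : mk x hax = 1 := h
    obtain ⟨i, hi⟩ := (mk_eq_one hax).1 h1
    have h2 : (⟨a, ha⟩ : ↥A) ∈ center ↥A := by
      rw [mem_center_iff]
      rintro ⟨b, hb⟩
      apply Subtype.ext
      change b * a = a * b
      rw [← hi]
      exact ((show Commute b x from mem_centralizer_singleton_iff.1 (hA hb)).zpow_right i).eq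
    rwa [hZ, mem_bot] at h2
  have hcard : Nat.card (XX x) ≤ Nat.card ↥A := by
    rw [card_cent] at hc
    exact Nat.le_of_mul_le_mul_right hc (orderOf_pos x)
  have hbij : Function.Bijective φ :=
    (Nat.bijective_iff_injective_and_card φ).2 ⟨hinj, le_antisymm (Nat.card_le_card_of_injective φ hinj) hcard⟩
  exact ⟨MulEquiv.ofBijective φ hbij⟩

theorem fr_pp : fr pp = 1 := Cfsg.Agent.H813.CoSevenData.fr_p0

/-- **`C(s)/⟨s⟩ ≅ A7`.** -/
theorem xx_equiv {s : Co1} (hs : orderOf s = 7) (hfr : fr s = 1) : Nonempty (↥BB ≃* XX s) := by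
  have := Cfsg.Agent.BpSevenCo.Conj.finite_co1
  have hp : Nat.Prime 7 := by norm_num
  obtain ⟨g, i, hg⟩ := Cfsg.Agent.BpSevenCo.Conj.wclass s pp hs order_pp hfr fr_pp
  obtain ⟨e⟩ := Cfsg.Agent.MFive.exists_cent_equiv hp hs order_pp hg
  let A : Subgroup Co1 := BB.map (MulAut.conj g⁻¹).toMonoidHom
  let f : ↥BB ≃* ↥A := BB.equivMapOfInjective _ (MulAut.conj g⁻¹).injective
  have hA : A ≤ centralizer ({s} : Set Co1) := by
    rintro _ ⟨b, hb, rfl⟩
    rw [mem_centralizer_singleton_iff]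
    have h1 : b * pp ^ i = pp ^ i * b :=
      ((show Commute b pp from mem_centralizer_singleton_iff.1 (BB_le hb)).pow_right i).eq
    rw [← hg] at h1
    change g⁻¹ * b * g⁻¹⁻¹ * s = s * (g⁻¹ * b * g⁻¹⁻¹)
    calc g⁻¹ * b * g⁻¹⁻¹ * s = g⁻¹ * (b * (g * s * g⁻¹)) * g := by group
      _ = s * (g⁻¹ * b * g⁻¹⁻¹) := by rw [h1]; group
  have hZ : center ↥A = ⊥ := by
    rw [eq_bot_iff]
    intro a ha
    have h1 : f.symm a ∈ center ↥BB := by
      rw [mem_center_iff]
      intro b
      apply f.injective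
      rw [map_mul, map_mul, f.apply_symm_apply]
      exact mem_center_iff.1 ha (f b)
    rw [BB_center, mem_bot] at h1
    rw [mem_bot, ← f.apply_symm_apply a, h1, map_one]
  obtain ⟨e'⟩ := quot_equiv hA hZ (by
    rw [← Nat.card_congr e.toEquiv, ← Nat.card_congr f.toEquiv, card_BB, hs]
    exact card_cent_pp)
  exact ⟨f.trans e'⟩

theorem xx_facts {s : Co1} (hs : orderOf s = 7) (hfr : fr s = 1) :
    IsSimpleGroup (XX s) ∧ ¬ IsMulCommutative (XX s) ∧ Nat.card (XX s) = 2520 := by
  obtain ⟨e⟩ := xx_equiv hs hfr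
  refine ⟨(CpQuot.Congr.isSimple_iff e).1 simple_BB, fun h => BB_not_comm ?_, ?_⟩
  · refine ⟨⟨fun a b => e.injective ?_⟩⟩
    rw [map_mul, map_mul]
    exact h.is_comm.comm _ _
  · rw [← Nat.card_congr e.toEquiv, card_BB]

end Cfsg.Agent.H961.SevX
end
end
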