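import Mathlib
import Cfsg.Prelude.Def_CoprimeAction
import Cfsg.Prelude.Def_Classification2
import Cfsg.Agent.H24.FixPSp_m3
import Cfsg.Agent.H967.CopD4_m3
import Cfsg.Agent.CpAut.Fix
import Cfsg.Agent.ClassicalGeometry.PSL2Solvable
import Cfsg.Agent.Classification.MinSimpleSuzuki
import Cfsg.Agent.S0247
import Cfsg.Agent.S0249
import Cfsg.Agent.S0270
import Cfsg.Agent.S0283
import Cfsg.Agent.S0295
import Cfsg.Agent.S0296
import Cfsg.Agent.S0297
import Cfsg.Agent.S1054
import Cfsg.Agent.S1055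
import Cfsg.Agent.S1057
import Cfsg.Agent.S1067
import Cfsg.Agent.S1070
import Cfsg.Agent.S1071
import Cfsg.Agent.S1072
import Cfsg.Agent.S1073
import Cfsg.Agent.S1074
import Cfsg.Agent.S1075
import Cfsg.Agent.S1162
import Cfsg.Agent.Prune
set_option linter.all false
prune_inst 0x7f00000000000000000000000000000000000000000000000000000000000000000000000000000000000000000000000000000000000000000000000000000000000000000000000000000000000000003fffffffffffffffffffffffffffbeffbdffffffff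
open scoped Cfsg.Agent.FastGrp

/-!
# Coprime automorphisms of known simple groups with solvable fixed points (helper961)

`simple_case` : `K` known simple, not abelian, `α` an automorphism of order prime to `|K|` with solvable fixed points:
`K` is `PSL₂(2^n)`, `PSL₂(3^n)`, `PSU₃(2^n)` or `Sz(2^n)`, `n = orderOf α`.
-/

set_option autoImplicit false

namespace Cfsg.Agent.H961.CopSmall

open Cfsg Cfsg.Lie Cfsg.Agent.H967.CopSec

universe u

/-! ### The groups over the fixed field -/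

theorem ns_of_simple {G : Type*} [Group G] (hs : IsSimpleGroup G) (hna : ¬ IsMulCommutative G) :
    ¬ Group.IsSolvable G := fun h => hna ⟨⟨IsSimpleGroup.comm_iff_isSolvable.2 h⟩⟩

theorem ns_quot {H : Type*} [Group H] (hs : IsSimpleGroup (H ⧸ Subgroup.center H)) :
    ¬ Group.IsSolvable (H ⧸ Subgroup.center H) := ns_of_simple hs CpAut.Fix.not_comm_quot

theorem solv_inj {H L : Type*} [Group H] [Group L] (hL : Group.IsSolvable L) (f : H →* L)
    (hf : Function.Injective f) : Group.IsSolvable H :=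
  Group.isSolvable_of_isSolvable_injective (f := f) hf

theorem ns_psl {E : Type*} [Field E] [Fintype E] {n : ℕ} (hn : 2 ≤ n)
    (h : Group.IsSolvable (Matrix.ProjectiveSpecialLinearGroup (Fin n) E)) :
    n = 2 ∧ (Fintype.card E = 2 ∨ Fintype.card E = 3) := by
  rcases Nat.lt_or_ge n 3 with h3 | h3
  · have hn2 : n = 2 := by omega
    subst hn2
    refine ⟨rfl, ?_⟩
    have h1 : 1 < Fintype.card E := Fintype.one_lt_card
    by_contra hcon
    exact ClassicalGeometry.PSL2Solvable.not_isSolvable_psl E (by omega) h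
  · exfalso
    exact ns_quot (H := Matrix.SpecialLinearGroup (Fin n) E) (S0249.result n h3) h

theorem ns_psp {E : Type*} [Field E] [Fintype E] {m : ℕ} (hm : 2 ≤ m) : ¬ Group.IsSolvable (PSp m E) := by
  intro h
  by_cases hc : m = 2 ∧ Fintype.card E = 2
  · obtain ⟨rfl, h2⟩ := hc
    obtain ⟨e⟩ := S0247.result h2
    have h3 : Group.IsSolvable ↥(Matrix.symplecticGroup (Fin 2) E) :=
      (Group.isSolvable_iff_subgroup_quotient (Subgroup.center _)).2
        ⟨Group.isSolvable_of_comm fun a b => Subtype.ext (Subgroup.mem_center_iff.1 b.2 a.1), h⟩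
    have h4 : Group.IsSolvable (Equiv.Perm (Fin 6)) := solv_inj h3 e.symm.toMonoidHom e.symm.injective
    exact Equiv.Perm.not_isSolvable (Fin 6) (by rw [Cardinal.mk_fin]; norm_num) h4
  · refine ns_quot (H := ↥(Matrix.symplecticGroup (Fin m) E)) (S0270.result m hm ?_) h
    intro hm2
    have h1 : 1 < Fintype.card E := Fintype.one_lt_card
    by_contra h3
    exact hc ⟨hm2, by omega⟩

theorem ns_psu {E : Type*} [Field E] [Fintype E] {q : ℕ} (hE : Fintype.card E = q ^ 2) {n : ℕ} (hn : 3 ≤ n)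
    (h : Group.IsSolvable (PSU n E q)) : n = 3 ∧ q = 2 := by
  by_contra hcon
  exact ns_quot (H := ↥(SU n E q)) (S0283.result hE n hn hcon) h

theorem ns_g2 {E : Type*} [Field E] [Fintype E] : ¬ Group.IsSolvable ↥(chevG2.group E) := by
  intro h
  by_cases h2 : ∃ a : E, a ≠ 0 ∧ a ≠ 1
  · obtain ⟨h3, h4⟩ := S1055.result h2
    exact ns_of_simple h3 h4 h
  · have hc : Fintype.card E = 2 := by
      push Not at h2
      classical
      have h3 : (Finset.univ : Finset E) = {0, 1} := by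
        ext a
        simp only [Finset.mem_univ, Finset.mem_insert, Finset.mem_singleton, true_iff]
        by_cases ha : a = 0
        · exact Or.inl ha
        · exact Or.inr (h2 a ha)
      rw [← Finset.card_univ, h3, Finset.card_pair zero_ne_one]
    let _ : Fintype (GaloisField 3 2) := Fintype.ofFinite _
    have hF : Fintype.card (GaloisField 3 2) = 9 := by
      rw [Fintype.card_eq_nat_card, GaloisField.card 3 2 (by norm_num)]; norm_num
    obtain ⟨e⟩ := S1057.result hc hF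
    have h3 : Group.IsSolvable ↥(commutator ↥(chevG2.group E)) := inferInstance
    have h4 : Group.IsSolvable (PSU 3 (GaloisField 3 2) 3) := solv_inj h3 e.symm.toMonoidHom e.symm.injective
    have h5 := ns_psu (E := GaloisField 3 2) (q := 3) (by rw [hF]; norm_num) le_rfl h4
    omega

theorem ns_chev {E : Type*} [Field E] {D : ChevalleyDatum} (hD : D ∈ [chevD4, chevF4, chevE6, chevE7, chevE8]) :
    ¬ Group.IsSolvable ↥(D.group E) := by
  obtain ⟨h3, h4⟩ := S1054.result (F := E) D hD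
  exact ns_of_simple h3 h4

theorem ns_ree {E : Type*} [Field E] [Fintype E] {m : ℕ} (hE : Fintype.card E = 3 ^ (2 * m + 1)) :
    ¬ Group.IsSolvable ↥(twistedG2 E (3 ^ m)) := by
  intro h
  rcases Nat.eq_zero_or_pos m with rfl | hm
  · have h3 : Fintype.card E = 3 := by rw [hE]; norm_num
    rw [pow_zero] at h
    have : Fact (Nat.Prime 3) := ⟨Nat.prime_three⟩
    let f : ZMod 3 →+* E := (ZMod.ringEquivOfPrime E Nat.prime_three h3).toRingHom
    have h4 := H967.CopFix.words_g2 f 1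
    have hfi : Function.Injective (Matrix.GeneralLinearGroup.map (n := chevG2.Idx) f) := by
      intro a b hab
      apply Units.ext
      ext i j
      have h1 := congrArg (fun x : GL chevG2.Idx E => (x : Matrix chevG2.Idx chevG2.Idx E) i j) hab
      exact f.injective h1
    have h5 : Group.IsSolvable ↥(twistedG2 (ZMod 3) 1) := by
      refine solv_inj h (((Matrix.GeneralLinearGroup.map (n := chevG2.Idx) f).comp (twistedG2 (ZMod 3) 1).subtype).codRestrict
        (twistedG2 E 1) (fun x => h4 ⟨x.1, x.2, rfl⟩)) ?_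
      intro a b hab
      exact Subtype.ext (hfi (congrArg Subtype.val hab))
    let _ : Fintype (GaloisField 2 3) := Fintype.ofFinite _
    have hF : Fintype.card (GaloisField 2 3) = 8 := by
      rw [Fintype.card_eq_nat_card, GaloisField.card 2 3 (by norm_num)]; norm_num
    obtain ⟨-, ⟨e⟩⟩ := S1075.result hF
    have h6 : Group.IsSolvable ↥(commutator ↥(twistedG2 (ZMod 3) 1)) := inferInstance
    have h7 := solv_inj h6 e.symm.toMonoidHom e.symm.injective
    have h8 := (ns_psl le_rfl h7).2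
    omega
  · obtain ⟨h3, h4⟩ := S1073.result hm hE
    exact ns_of_simple h3 h4 h

theorem ns_tf4 {E : Type*} [Field E] [Fintype E] {m : ℕ} (hE : Fintype.card E = 2 ^ (2 * m + 1)) :
    ¬ Group.IsSolvable ↥(twistedF4 E (2 ^ m)) := by
  intro h
  rcases Nat.eq_zero_or_pos m with rfl | hm
  · have h3 : Fintype.card E = 2 := by rw [hE]; norm_num
    rw [pow_zero] at h
    let f : ZMod 2 →+* E := (ZMod.ringEquivOfPrime E Nat.prime_two h3).toRingHom
    have h4 := H967.CopFix.words_f4 f 1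
    have hfi : Function.Injective (Matrix.GeneralLinearGroup.map (n := chevF4.Idx) f) := by
      intro a b hab
      apply Units.ext
      ext i j
      have h1 := congrArg (fun x : GL chevF4.Idx E => (x : Matrix chevF4.Idx chevF4.Idx E) i j) hab
      exact f.injective h1
    have h5 : Group.IsSolvable ↥(twistedF4 (ZMod 2) 1) := by
      refine solv_inj h (((Matrix.GeneralLinearGroup.map (n := chevF4.Idx) f).comp (twistedF4 (ZMod 2) 1).subtype).codRestrict
        (twistedF4 E 1) (fun x => h4 ⟨x.1, x.2, rfl⟩)) ?_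
      intro a b hab
      exact Subtype.ext (hfi (congrArg Subtype.val hab))
    obtain ⟨-, h6, h7, -⟩ := S1074.result
    have h8 : Group.IsSolvable ↥(commutator ↥(twistedF4 (ZMod 2) 1)) := inferInstance
    exact ns_of_simple h6 h7 h8
  · obtain ⟨h3, h4⟩ := S1072.result hm hE
    exact ns_of_simple h3 h4 h

theorem ns_sz {E : Type*} [Field E] [Fintype E] {m : ℕ} (hE : Fintype.card E = 2 ^ (2 * m + 1))
    (h : Group.IsSolvable ↥(Lie.Sz E (2 ^ (m + 1)))) : m = 0 := by
  by_contra hm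
  exact Cfsg.Agent.Classification.MinSimpleSuzuki.not_isSolvable_Sz (by omega) hE h

/-! ### The families -/

variable {K : Type u} [Group K] [Finite K] [IsSimpleGroup K]

omit [Finite K] [IsSimpleGroup K] in
theorem solv_of_fix {α : MulAut K} (hs : Group.IsSolvable ↥(Fix α)) {Y : Type*} [Group Y] (f : Y →* K)
    (hf : Function.Injective f) (h : ∀ x, α (f x) = f x) : Group.IsSolvable Y :=
  (Sec.of_hom (α := α) f hf h).isSolvable hs

/-- Automorphisms with solvable fixed points of the groups of Lie type. -/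
theorem lie_case (hna : ¬ IsMulCommutative K) (h2 : 2 ∣ Nat.card K)
    (hk : IsPSL K ∨ IsPSp K ∨ IsPSU K ∨ IsPOmegaOdd K ∨ IsPOmegaPlus K ∨ IsPOmegaMinus K ∨ Lie.IsoChevG2 K ∨
      Lie.IsoF4 K ∨ Lie.IsoChevE6 K ∨ Lie.IsoE7 K ∨ Lie.IsoE8 K ∨ Lie.Iso2E6 K ∨ Lie.Iso3D4 K ∨ Lie.IsoSuzuki K ∨
      Lie.IsoRee K ∨ Lie.Iso2F4 K)
    (α : MulAut K) (hα : (orderOf α).Coprime (Nat.card K)) (hs : Group.IsSolvable ↥(Fix α)) :
    IsRankOneOverDegreeRField (orderOf α) K := by
  have hE : ∀ {F : Type} [Field F] [Fintype F] (E : Subfield F), Nat.card F = Nat.card E ^ orderOf α →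
      ∀ [Fintype E], Fintype.card F = Fintype.card E ^ orderOf α := by
    intro F _ _ E h _
    rwa [Nat.card_eq_fintype_card, Nat.card_eq_fintype_card] at h
  rcases hk with hk | hk | hk | hk | hk | hk | hk | hk | hk | hk | hk | hk | hk | hk | hk | hk
  · obtain ⟨F, _, _, n, hn, h4, ⟨e⟩⟩ := hk
    obtain ⟨E, hc, hsec⟩ := FixLin.fix_psl hn h4 hna h2 e α hα
    let _ : Fintype E := Fintype.ofFinite _
    obtain ⟨rfl, h3⟩ := ns_psl (E := E) hn (hsec.isSolvable hs)
    have hc' := hE E hc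
    rcases h3 with h3 | h3
    · exact Or.inl ⟨F, inferInstance, inferInstance, by rw [hc', h3], ⟨e⟩⟩
    · exact Or.inr (Or.inl ⟨F, inferInstance, inferInstance, by rw [hc', h3], ⟨e⟩⟩)
  · obtain ⟨F, _, _, m, hm, h3, ⟨e⟩⟩ := hk
    obtain ⟨E, hc, hsec⟩ := H24.FixPSp.fix_psp hm h3 hna h2 e α hα
    let _ : Fintype E := Fintype.ofFinite _
    exact absurd (hsec.isSolvable hs) (ns_psp hm)
  · obtain ⟨F, _, _, n, q, hF, hn, h32, ⟨e⟩⟩ := hk
    obtain ⟨E, q₀, hc, hq₀, hq, hsec⟩ := FixLin.fix_psu hF hn h32 hna h2 e α hα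
    let _ : Fintype E := Fintype.ofFinite _
    obtain ⟨rfl, rfl⟩ := ns_psu (E := E) (by rw [← Nat.card_eq_fintype_card]; exact hq₀) hn (hsec.isSolvable hs)
    subst hq
    exact Or.inr (Or.inr (Or.inl ⟨F, inferInstance, inferInstance, hF, ⟨e⟩⟩))
  · obtain ⟨F, _, _, m, hm, hodd, ⟨e⟩⟩ := hk
    obtain ⟨E, hc, hsec⟩ := H24.FixOrth.fix_odd hm hodd hna h2 e α hα
    let _ : Fintype E := Fintype.ofFinite _
    have hodd' : Odd (Fintype.card E) := by
      have h5 : Fintype.card E ∣ Fintype.card F := by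
        rw [hE E hc]
        refine dvd_pow_self _ ?_
        intro h0
        have h6 := hE E hc
        rw [h0, pow_zero] at h6
        have := Fintype.one_lt_card (α := F)
        omega
      exact Odd.of_dvd_nat hodd h5
    exact absurd (hsec.isSolvable hs) (ns_quot (H := ↥(Omega E (quadFormOdd m E))) (S0295.result hodd' m hm))
  · obtain ⟨F, _, _, m, hm, ⟨e⟩⟩ := hk
    obtain ⟨E, hc, hsec⟩ := H24.FixOrth.fix_plus hm hna h2 e α hα
    let _ : Fintype E := Fintype.ofFinite _
    exact absurd (hsec.isSolvable hs) (ns_quot (H := ↥(Omega E (quadFormPlus m E))) (S0296.result m hm))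
  · obtain ⟨F, _, _, m, a, b, hm, hab, ⟨e⟩⟩ := hk
    obtain ⟨E, a₀, b₀, hc, hab₀, hsec⟩ := H24.FixOrth.fix_minus hm a b hab hna h2 e α hα
    let _ : Fintype E := Fintype.ofFinite _
    exact absurd (hsec.isSolvable hs)
      (ns_quot (H := ↥(Omega E (quadFormMinus (m - 1) E a₀ b₀))) (S0297.result m hm a₀ b₀ hab₀))
  · obtain ⟨F, _, _, h3, ⟨e⟩⟩ := hk
    obtain ⟨E, hc, f, hf, hfix⟩ := H967.CopFix.fix_g2 h3 e α hα
    let _ : Fintype E := Fintype.ofFinite _
    exact absurd (solv_of_fix hs f hf hfix) ns_g2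
  · obtain ⟨F, _, _, ⟨e⟩⟩ := hk
    obtain ⟨E, hc, f, hf, hfix⟩ := H967.CopFix.fix_f4 e α hα
    exact absurd (solv_of_fix hs f hf hfix) (ns_chev (by simp))
  · obtain ⟨F, _, _, ⟨e⟩⟩ := hk
    obtain ⟨E, hc, f, hf, hfix⟩ := H967.CopFix.fix_e6 e α hα
    exact absurd (solv_of_fix hs f hf hfix) (ns_chev (by simp))
  · obtain ⟨F, _, _, ⟨e⟩⟩ := hk
    obtain ⟨E, hc, f, hf, hfix⟩ := H967.CopFix.fix_e7 e α hα
    exact absurd (solv_of_fix hs f hf hfix) (ns_chev (by simp))
  · obtain ⟨F, _, _, ⟨e⟩⟩ := hk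
    obtain ⟨E, hc, f, hf, hfix⟩ := H967.CopFix.fix_e8 e α hα
    exact absurd (solv_of_fix hs f hf hfix) (ns_chev (by simp))
  · obtain ⟨F, _, _, q, hq, hF, ⟨e⟩⟩ := hk
    have hfin : Finite ↥(twistedE6 F q) := Finite.of_equiv K e.toEquiv
    have hsim : IsSimpleGroup ↥(twistedE6 F q) := e.symm.isSimpleGroup
    have hsch := Cfsg.Agent.Schreier.TwESix.sch_of_iso2E6 (G := ↥(twistedE6 F q))
      ⟨F, inferInstance, inferInstance, q, hq, hF, ⟨MulEquiv.refl _⟩⟩
    obtain ⟨E, q₀, hc, hE₀, hq₀, -, f, hf, hfix⟩ := H967.CopFix.fix_2e6 hq hF hsch (even_iff_two_dvd.2 h2) e α hα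
    let _ : Fintype E := Fintype.ofFinite _
    obtain ⟨h3, h4⟩ := S1070.result (K := E) hq₀ (by rw [← Nat.card_eq_fintype_card]; exact hE₀)
    exact absurd (solv_of_fix hs f hf hfix) (ns_of_simple h3 h4)
  · obtain ⟨F, _, _, q, hq, hF, ⟨e⟩⟩ := hk
    have h3K : 3 ∣ Nat.card K := by
      rw [Nat.card_congr e.toEquiv, S1067.result hq hF]
      apply Dvd.dvd.mul_right
      apply Dvd.dvd.mul_right
      rcases (by omega : q % 3 = 0 ∨ q % 3 = 1 ∨ q % 3 = 2) with h | h | h
      · exact Dvd.dvd.mul_right ((Nat.dvd_of_mod_eq_zero h).trans (dvd_pow_self q (by norm_num))) _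
      · apply Dvd.dvd.mul_left
        obtain ⟨a, ha⟩ : ∃ a, q = 3 * a + 1 := ⟨q / 3, by omega⟩
        refine ⟨3 * a ^ 2 + 2 * a, ?_⟩
        rw [ha]
        have h5 : (3 * a + 1) ^ 2 = 3 * (3 * a ^ 2 + 2 * a) + 1 := by ring
        rw [h5]
        omega
      · apply Dvd.dvd.mul_left
        obtain ⟨a, ha⟩ : ∃ a, q = 3 * a + 2 := ⟨q / 3, by omega⟩
        refine ⟨3 * a ^ 2 + 4 * a + 1, ?_⟩
        rw [ha]
        have h5 : (3 * a + 2) ^ 2 = 3 * (3 * a ^ 2 + 4 * a + 1) + 1 := by ring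
        rw [h5]
        omega
    obtain ⟨E, q₀, hc, hE₀, hq₀, -, f, hf, hfix⟩ := H967.CopD4.fix_d4 hq hF h3K e α hα
    let _ : Fintype E := Fintype.ofFinite _
    obtain ⟨h3, h4⟩ := S1071.result (K := E) hq₀ (by rw [← Nat.card_eq_fintype_card]; exact hE₀)
    exact absurd (solv_of_fix hs f hf hfix) (ns_of_simple h3 h4)
  · obtain ⟨F, _, _, m, hm, hF, ⟨e⟩⟩ := hk
    obtain ⟨E, m₀, hc, hE₀, f, hf, hfix⟩ := H967.CopFix.fix_sz hm hF e α hα
    let _ : Fintype E := Fintype.ofFinite _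
    rw [Nat.card_eq_fintype_card] at hE₀
    have h0 := ns_sz hE₀ (solv_of_fix hs f hf hfix)
    subst h0
    have hc' := hE E hc
    rw [hE₀] at hc'
    have h5 : Fintype.card F = 2 ^ orderOf α := by rw [hc']; norm_num
    refine Or.inr (Or.inr (Or.inr ⟨F, inferInstance, inferInstance, m, ?_, h5, ⟨e⟩⟩))
    rw [hF] at h5
    exact (Nat.pow_right_injective le_rfl h5).symm
  · obtain ⟨F, _, _, m, hm, hF, ⟨e⟩⟩ := hk
    obtain ⟨E, m₀, hc, hE₀, f, hf, hfix⟩ := H967.CopFix.fix_ree hm hF e α hα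
    let _ : Fintype E := Fintype.ofFinite _
    rw [Nat.card_eq_fintype_card] at hE₀
    exact absurd (solv_of_fix hs f hf hfix) (ns_ree hE₀)
  · obtain ⟨F, _, _, m, hm, hF, ⟨e⟩⟩ := hk
    obtain ⟨E, m₀, hc, hE₀, f, hf, hfix⟩ := H967.CopFix.fix_tf4 hm hF e α hα
    let _ : Fintype E := Fintype.ofFinite _
    rw [Nat.card_eq_fintype_card] at hE₀
    exact absurd (solv_of_fix hs f hf hfix) (ns_tf4 hE₀)

end Cfsg.Agent.H961.CopSmall
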